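import Cfsg.Agent.Lib.CYN.T1
import Cfsg.Agent.Lib.HK.BasA

/-! Case B: good sets, definitions and generalities. -/

set_option autoImplicit false
set_option linter.unusedSectionVars false

namespace H97.CYN

open MulAction Subgroup Matrix H51.HK
open scoped MatrixGroups commutatorElement

variable {G Ω : Type} [Group G] [MulAction G Ω]

def Pg (Q : Ω → Subgroup G) (M : Set Ω) : Subgroup G := ⁅Lt M Q, Lt M Q⁆

def Zg (Q : Ω → Subgroup G) (M : Set Ω) : Subgroup G := Pg Q M ⊓ centralizer (Lt M Q : Set G)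

/-- the span -/
def Sp (Q : Ω → Subgroup G) (M : Set Ω) : Set Ω := {c | Q c ≤ Lt M Q}

/-- the set stabiliser -/
def Nm (G : Type) [Group G] [MulAction G Ω] (M : Set Ω) : Subgroup G where
  carrier := {g | ∀ c, g • c ∈ M ↔ c ∈ M}
  one_mem' := fun c => by rw [one_smul]
  mul_mem' := fun {g k} hg hk c => by rw [mul_smul, hg, hk]
  inv_mem' := fun {g} hg c => by rw [← hg, smul_inv_smul]

structure Gd (Q : Ω → Subgroup G) (M : Set Ω) : Prop where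
  cl : Cl Q M
  nt : M.Nontrivial
  two : IsPGroup 2 (Pg Q M)

/-- the squares -/
def Sq (Q : Ω → Subgroup G) : Set G :=
  {u | ∃ a b, a ≠ b ∧ ∃ r ∈ Pg Q (Li Q a b), r • a = b ∧ u = r * r}

/-- the hypothesis of case B -/
structure SB (p : ℕ) (Q : Ω → Subgroup G) : Prop extends St p Q where
  af : ∀ a b, a ≠ b → Af Q a b (Pg Q (Li Q a b))
  om : ∀ a b, a ≠ b → ∀ r ∈ Pg Q (Li Q a b), r * r = 1 → r ∈ Wg Q a b

variable [Finite G] [Finite Ω] {p : ℕ} {Q : Ω → Subgroup G}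
variable {a b c d : Ω} {g k l w x y r z : G} {M M' : Set Ω} {T : Subgroup G}

theorem Nm_of (h : ∀ c ∈ M, g • c ∈ M) : g ∈ Nm G M := by
  have hp : ∀ n : ℕ, ∀ c ∈ M, g ^ n • c ∈ M := by
    intro n
    induction n with
    | zero => intro c hc; simpa using hc
    | succ n ih => intro c hc; rw [pow_succ, mul_smul]; exact ih _ (h c hc)
  refine fun c => ⟨fun hc => ?_, h c⟩
  have := hp (orderOf g - 1) _ hc
  rwa [← mul_smul, ← pow_succ, Nat.sub_add_cancel (orderOf_pos g), pow_orderOf_eq_one,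
    one_smul] at this

theorem Nm_smul (hg : g ∈ Nm G M) (hc : c ∈ M) : g • c ∈ M := (hg c).2 hc

theorem Nm_of_Tr (h : Tr M g) : g ∈ Nm G M := Nm_of fun c hc => by rw [h c hc]; exact hc

theorem Lt_mono (h : M' ⊆ M) : Lt M' Q ≤ Lt M Q := Lt_le_iff.2 fun _ hc => le_Lt (h hc)

theorem Pg_mono (h : M' ⊆ M) : Pg Q M' ≤ Pg Q M := commutator_mono (Lt_mono h) (Lt_mono h)

theorem Pg_le_Lt : Pg Q M ≤ Lt M Q := H69.commutator_le_of_le le_rfl le_rfl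

theorem Zg_le_Pg : Zg Q M ≤ Pg Q M := inf_le_left

theorem Zg_comm (hz : z ∈ Zg Q M) (hl : l ∈ Lt M Q) : l * z = z * l := hz.2 l hl

theorem Cl.Lt_le (h : Fam p Q) (hM : Cl Q M) : Lt M Q ≤ Nm G M :=
  Lt_le_iff.2 fun _ ha _ hx => Nm_of fun _ hc => hM.inv h ha hx hc

theorem norm_of_cj (h : ∀ t ∈ T, g * t * g⁻¹ ∈ T) : g ∈ normalizer (T : Set G) :=
  mem_normalizer_fintype h

theorem norm_cj (h : g ∈ normalizer (T : Set G)) (ht : k ∈ T) : g * k * g⁻¹ ∈ T :=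
  (mem_normalizer_iff.1 h k).1 ht

theorem Fam.Nm_L (h : Fam p Q) (hg : g ∈ Nm G M) : g ∈ normalizer (Lt M Q : Set G) := by
  have : Lt M Q ≤ (Lt M Q).comap (MulAut.conj g).toMonoidHom :=
    Lt_le_iff.2 fun c hc x hx => le_Lt (Nm_smul hg hc) (h.cj g c x hx)
  exact norm_of_cj fun t ht => this ht

theorem Fam.Nm_P (h : Fam p Q) (hg : g ∈ Nm G M) : g ∈ normalizer (Pg Q M : Set G) :=
  H69.le_normalizer_commutator le_rfl le_rfl (h.Nm_L hg)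

theorem Fam.Nm_Z (h : Fam p Q) (hg : g ∈ Nm G M) : g ∈ normalizer (Zg Q M : Set G) := by
  refine norm_of_cj fun t ht => ⟨norm_cj (h.Nm_P hg) ht.1, fun l hl => ?_⟩
  have := ht.2 _ (norm_cj (inv_mem (h.Nm_L hg)) hl)
  calc l * (g * t * g⁻¹) = g * (g⁻¹ * l * g⁻¹⁻¹ * t) * g⁻¹ := by group
    _ = _ := by rw [this]; group

theorem L_norm_P (hl : l ∈ Lt M Q) : l ∈ normalizer (Pg Q M : Set G) :=
  H69.le_normalizer_commutator le_normalizer le_normalizer hl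

theorem comm_mem_P (hl : l ∈ Lt M Q) (hk : k ∈ Lt M Q) : l * k * l⁻¹ * k⁻¹ ∈ Pg Q M :=
  commutator_mem_commutator hl hk

open Pointwise in
theorem ex_sup {A : Subgroup G} (hn : A ≤ normalizer (T : Set G)) (hk : k ∈ A ⊔ T) :
    ∃ x ∈ A, x⁻¹ * k ∈ T := by
  have : k ∈ (A : Set G) * (T : Set G) := by
    rw [← coe_mul_of_left_le_normalizer_right A T hn]; exact hk
  obtain ⟨x, hx, t, ht, rfl⟩ := this
  exact ⟨x, hx, by simpa using ht⟩

theorem Fam.Pg_le (h : Fam p Q) (hn : Q a ≤ normalizer (T : Set G)) (hle : Lt M Q ≤ Q a ⊔ T) :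
    Pg Q M ≤ T := by
  refine commutator_le.2 fun k1 h1 k2 h2 => ?_
  obtain ⟨x1, hx1, t1⟩ := ex_sup hn (hle h1)
  obtain ⟨x2, hx2, t2⟩ := ex_sup hn (hle h2)
  have e := h.comm hx1 hx2
  have := mul_mem (mul_mem (norm_cj (hn hx1) t1)
    (norm_cj (hn (mul_mem hx1 hx2)) (mul_mem t2 (inv_mem t1)))) (norm_cj (hn hx2) (inv_mem t2))
  convert this using 1
  rw [commutatorElement_def]
  calc k1 * k2 * k1⁻¹ * k2⁻¹ = k1 * k2 * k1⁻¹ * (x1 * x2⁻¹ * x1⁻¹ * x2) * k2⁻¹ := by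
        rw [mul_assoc x1, ← _root_.mul_inv_rev, e]; group
    _ = _ := by group

theorem Fam.Q_le_of_smul (h : Fam p Q) (hg : g ∈ T) (e : g • a = c) : Q c ≤ Q a ⊔ T := by
  intro y hy
  have : g⁻¹ * y * g ∈ Q a := (h.cj_iff g _ a).1 (by simpa [mul_assoc, e] using hy)
  have := mul_mem (mul_mem (mem_sup_right hg : g ∈ Q a ⊔ T) (mem_sup_left this))
    (inv_mem (mem_sup_right hg))
  simpa [mul_assoc] using this

theorem Cl.gl (h : Fam p Q) (hM : Cl Q M) (ha : a ∈ M) (hb : b ∈ M) : ∃ l ∈ Lt M Q, l • a = b :=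
  h.gleason (fun _ ha _ hx _ hc => hM.inv h ha hx hc) ha hb

theorem Cl.sup (h : Fam p Q) (hM : Cl Q M) (ha : a ∈ M) (hk : k ∈ Lt M Q) :
    ∃ x ∈ Q a, x⁻¹ * k ∈ Pg Q M := by
  refine ex_sup (fun x hx => L_norm_P (le_Lt ha hx)) (Lt_le_iff.2 (fun c hc y hy => ?_) hk)
  obtain ⟨l, hl, rfl⟩ := hM.gl h ha hc
  have hx : l⁻¹ * y * l ∈ Q a := (h.cj_iff l _ a).1 (by simpa [mul_assoc] using hy)
  have := mul_mem (mem_sup_right (comm_mem_P hl (le_Lt ha hx)) : _ ∈ Q a ⊔ Pg Q M) (mem_sup_left hx)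
  simpa [mul_assoc] using this

theorem Cl.tr (h : Fam p Q) (hM : Cl Q M) (ha : a ∈ M) (hb : b ∈ M) : ∃ r ∈ Pg Q M, r • a = b := by
  obtain ⟨l, hl, rfl⟩ := hM.gl h ha hb
  obtain ⟨x, hx, e⟩ := hM.sup h ha (inv_mem hl)
  refine ⟨_, inv_mem e, ?_⟩
  rw [_root_.mul_inv_rev, inv_inv, inv_inv, mul_smul, h.fix a x hx]

theorem Cl.phi (h : Fam p Q) (hM : Cl Q M) (ha : a ∈ M) (hk : k ∈ Lt M Q) :
    ∃ y ∈ Q a, k⁻¹ * y ∈ Pg Q M := by
  obtain ⟨y, hy, e⟩ := hM.sup h ha hk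
  exact ⟨y, hy, by simpa using inv_mem e⟩

theorem sub_Sp : M ⊆ Sp Q M := fun _ hc => le_Lt hc

theorem Lt_Sp : Lt (Sp Q M) Q = Lt M Q := le_antisymm (Lt_le_iff.2 fun _ hc => hc) (Lt_mono sub_Sp)

theorem cl_Sp : Cl Q (Sp Q M) := fun a ha b hb c hc =>
  (show Q c ≤ Q a ⊔ Q b from hc).trans (sup_le ha hb)

theorem cl_Li : Cl Q (Li Q a b) := fun c ha d hb e hc =>
  (show Q e ≤ Q c ⊔ Q d from hc).trans (sup_le ha hb)

theorem Cl.inter (h : Cl Q M) (h' : Cl Q M') : Cl Q (M ∩ M') :=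
  fun a ha b hb _ hc => ⟨h a ha.1 b hb.1 hc, h' a ha.2 b hb.2 hc⟩

theorem Cl.Sp_le (h : Fam p Q) (hM : Cl Q M) (ha : a ∈ M') (hle : M' ⊆ M) : Sp Q M' ⊆ M := by
  intro c hc
  obtain ⟨l, hl, rfl⟩ := cl_Sp.gl h (sub_Sp ha) hc
  rw [Lt_Sp] at hl
  exact Nm_smul (hM.Lt_le h (Lt_mono hle hl)) (hle ha)

theorem Fam.gd_of (h : Fam p Q) (hM : Cl Q M) (nt : M.Nontrivial) (hT : IsPGroup 2 T)
    (hn : Q a ≤ normalizer (T : Set G)) (hle : Lt M Q ≤ Q a ⊔ T) : Gd Q M :=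
  ⟨hM, nt, hT.to_le (h.Pg_le hn hle)⟩

theorem Gd.sub (hM : Gd Q M) (hle : M' ⊆ M) (hc : Cl Q M') (nt : M'.Nontrivial) : Gd Q M' :=
  ⟨hc, nt, hM.two.to_le (Pg_mono hle)⟩

theorem St.sb (h : St p Q) (hB : CaseB Q) : SB p Q := by
  have key : ∀ a b, a ≠ b → ∀ R, Af Q a b R → R = Pg Q (Li Q a b) := by
    intro a b hab R A
    have h1 : Pg Q (Li Q a b) ≤ R := by
      refine h.toFam.Pg_le (a := a) (fun x hx => norm_of_cj (A.nrm x (Kg_le_Ng Q a b (t1_left hx)))) ?_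
      rw [Lt_Li]
      intro k hk
      obtain ⟨x, hx, e⟩ := A.sup a (left_mem_Li Q a b) k hk
      simpa using mul_mem (mem_sup_left hx : x ∈ Q a ⊔ R) (mem_sup_right e)
    refine le_antisymm (fun r hr => ?_) h1
    obtain ⟨x, hx, e⟩ := cl_Li.sup h.toFam (left_mem_Li Q a b) ((Lt_Li Q a b).symm ▸ A.le hr)
    have : x = 1 := h.toFam.t1_QR A.two hx (by simpa using mul_mem hr (inv_mem (h1 e)))
    simpa [this] using e
  refine ⟨h, fun a b hab => ?_, fun a b hab => ?_⟩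
  · obtain ⟨R, A, -⟩ := hB a b hab
    exact key a b hab R A ▸ A
  · obtain ⟨R, A, hR⟩ := hB a b hab
    exact key a b hab R A ▸ hR

theorem SB.gd_Li (h : SB p Q) (hab : a ≠ b) : Gd Q (Li Q a b) :=
  ⟨cl_Li, ⟨a, left_mem_Li Q a b, b, right_mem_Li Q a b, hab⟩, (h.af a b hab).two⟩

end H97.CYN
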