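import Cfsg.Agent.Lib.CYN.Bs1
import Cfsg.Agent.Lib.HK.KRe
import Cfsg.Agent.Lib.HK.Ree3
import Cfsg.Agent.Lib.GL.Simple

set_option autoImplicit false
set_option linter.unusedSectionVars false

namespace H97.CYN

open MulAction Subgroup Matrix H51.HK
open scoped MatrixGroups

variable {G Ω : Type} [Group G] [MulAction G Ω] [Finite G] [Finite Ω] {p : ℕ} {Q : Ω → Subgroup G}

theorem bs3_iso {K : Type} [Field K] [Fintype K] (hK : Fintype.card K = 3 ^ (2 * 0 + 1)) :
    Nonempty (Cfsg.Lie.twistedG2 K (3 ^ 0) ≃* Cfsg.Lie.twistedG2 (ZMod 3) (3 ^ 0)) := by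
  have : Fact (Nat.Prime 3) := ⟨Nat.prime_three⟩
  let φ : K ≃+* ZMod 3 := FiniteField.ringEquivOfCardEq (by rw [hK, ZMod.card]; rfl)
  let f : Cfsg.Lie.twistedG2 K (3 ^ 0) →* Cfsg.Lie.twistedG2 (ZMod 3) (3 ^ 0) :=
    ((GeneralLinearGroup.map (φ : K →+* ZMod 3)).comp (Cfsg.Lie.twistedG2 K (3 ^ 0)).subtype).codRestrict _
      fun g => Ree3.map_mem _ _ g.2
  have hf : Function.Injective f := fun a b h => Subtype.ext (Units.ext
    (Matrix.map_injective φ.injective (congrArg Units.val (congrArg Subtype.val h))))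
  have c1 := Cfsg.Agent.S1069.result hK
  have c2 := Cfsg.Agent.S1069.result (K := ZMod 3) (m := 0) (ZMod.card 3)
  have : Finite (Cfsg.Lie.twistedG2 (ZMod 3) (3 ^ 0)) :=
    Nat.finite_of_card_ne_zero (by rw [c2]; norm_num)
  exact ⟨MulEquiv.ofBijective f (hf.bijective_of_nat_card_le (c2.trans c1.symm).le)⟩

theorem bs3_comm {A B : Type*} [Group A] [Group B] (e : A ≃* B) :
    Nonempty (commutator A ≃* commutator B) :=
  ⟨(e.subgroupMap (commutator A)).trans (MulEquiv.subgroupCongr (by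
    rw [map_commutator_eq, MonoidHom.range_eq_top.2 e.surjective, commutator_def]))⟩

theorem St.ree (h : St p Q) (hW : W1 Q) {U : Ω → Subgroup G} (hU : Cb U) (hr : Reg U)
    (hS : SylF U 3) (hle : ∀ c, Q c ≤ U c) {K : Type} [Field K] [Fintype K] {m : ℕ}
    (hK : Fintype.card K = 3 ^ (2 * m + 1))
    (e : Lt Set.univ U ≃* Cfsg.Lie.twistedG2 K (3 ^ m)) : p = 3 ∧ Re3 Q := by
  have : Fact (Nat.Prime 2) := ⟨Nat.prime_two⟩
  have : Fact (Nat.Prime 3) := ⟨Nat.prime_three⟩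
  have := H40.Ree.charP_three hK
  have R := kre_reP hU hr hS ((H40.Ree.lieModel hK).comap e)
  have := h.nt
  obtain ⟨a, b, hab⟩ := exists_pair_ne Ω
  have p3 : p = 3 := by
    obtain ⟨x, hx, x1⟩ := h.ex a
    obtain ⟨k, hk⟩ := (hS a).1 ⟨x, hle a hx⟩
    have : p ∣ 3 ^ k := h.orderOf_eq hx x1 ▸ orderOf_dvd_of_pow_eq_one (congrArg Subtype.val hk)
    exact (Nat.prime_dvd_prime_iff_eq h.pr Nat.prime_three).1 (h.pr.dvd_of_dvd_pow this)
  subst p3
  have J : ∀ c d : Ω, c ≠ d → ∃ j : G, j • c = c ∧ j • d = d ∧ j * j = 1 ∧ j ≠ 1 := fun c d hcd => by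
    obtain ⟨j, -, h1, h2, h3, h4⟩ := R.ex c trivial d trivial hcd
    exact ⟨j, h1, h2, (kre_tr hU).1 h3, fun e => h4 ((kre_tr hU).2 e)⟩
  have n : Nat.card Ω = (3 ^ (2 * m + 1)) ^ 3 + 1 := by
    rw [← Set.ncard_univ, R.card, Nat.card_eq_fintype_card, hK]
  have cL := (Nat.card_congr e.toEquiv).trans (Cfsg.Agent.S1069.result hK)
  have cG := h.card_G hab
  have hH := Nat.le_of_dvd (by norm_num) (h.H_dvd hW hab)
  have le := card_le_card_group (Lt Set.univ U)
  rw [n, Nat.add_sub_cancel] at cG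
  obtain rfl : m = 0 := by
    by_contra m0
    have hq : 3 ^ 2 ≤ 3 ^ (2 * m + 1) := Nat.pow_le_pow_right (by norm_num) (by omega)
    rw [cL, cG] at le
    generalize 3 ^ (2 * m + 1) = q at *
    rw [mul_right_comm, mul_comm (q ^ 3)] at le
    have := Nat.le_of_mul_le_mul_left le (by positivity)
    omega
  norm_num at n cL cG hH
  have c1 : Nat.card G = 1512 := by omega
  have hL : Lt Set.univ U = ⊤ := eq_top_of_card_eq _ (cL.trans c1.symm)
  let e1 : G ≃* Cfsg.Lie.twistedG2 K (3 ^ 0) := (topEquiv.symm.trans (MulEquiv.subgroupCongr hL.symm)).trans e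
  obtain ⟨e2⟩ := bs3_iso hK
  obtain ⟨e3⟩ := bs3_comm (e1.trans e2)
  let _ := Fintype.ofFinite (GaloisField 2 3)
  have h8 : Nat.card (GaloisField 2 3) = 8 := GaloisField.card _ _ three_ne_zero
  have h8' : Fintype.card (GaloisField 2 3) = 8 := by rw [← Nat.card_eq_fintype_card, h8]
  obtain ⟨c3, ⟨e4⟩⟩ := Cfsg.Agent.S1075.result h8'
  have c4 : Nat.card (commutator G) = 504 := (Nat.card_congr e3.toEquiv).trans c3
  have sim : IsSimpleGroup (commutator G) :=
    haveI := H10.isSimpleGroup_PSL_fin (F := GaloisField 2 3) 2 le_rfl fun _ => by rw [h8]; norm_num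
    (e3.trans e4).isSimpleGroup
  have le1 : Lt Set.univ Q ≤ commutator G := iSup₂_le fun c _ x hx => by
    obtain ⟨d, hd⟩ := exists_ne c
    obtain ⟨j, jc, jd, j2, j1⟩ := J c d hd.symm
    rcases h.cent_or_inv jc (fun y _ => by rw [j2, one_mul, mul_one]) with k | k
    · exact absurd (h.H_faith hW hd.symm jd k) j1
    · have k1 : x * x ∈ commutator G := by
        have := commutator_mem_commutator (mem_top x) (mem_top j)
        rwa [commutatorElement_def, mul_assoc, mul_assoc, ← mul_assoc j, k _ (inv_mem hx), inv_inv] at this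
      have k2 := mul_mem k1 k1
      rwa [mul_assoc, ← pow_three, h.pow_eq hx, mul_one] at k2
  have eq1 : Lt Set.univ Q = commutator G := by
    have := h.Lt_normal
    rcases (inferInstance : ((Lt Set.univ Q).subgroupOf (commutator G)).Normal).eq_bot_or_eq_top with k | k
    · obtain ⟨x, hx, x1⟩ := h.ex a
      have hx' := x_le_Lt Q (Set.mem_univ a) hx
      exact absurd (congrArg Subtype.val ((eq_bot_iff_forall _).1 k ⟨x, le1 hx'⟩ hx')) x1
    · exact le_antisymm le1 (subgroupOf_eq_top.1 k)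
  have idx : ∀ g : G, g ^ 3 ∈ Lt Set.univ Q := fun g => by
    have := (commutator G).index_mul_card
    rw [c4, c1] at this
    rw [eq1, ← show (commutator G).index = 3 by omega]
    exact (commutator G).pow_index_mem g
  refine ⟨rfl, ⟨n, ⟨_, _, _, h8', ⟨(MulEquiv.subgroupCongr eq1).trans (e3.trans e4)⟩⟩,
    K, _, _, hK, ⟨e1⟩⟩, idx, fun g g2 => ?_, fun c => ?_⟩
  · by_cases g1 : g = 1
    · exact ⟨a, b, hab, by rw [g1, one_smul], by rw [g1, one_smul]⟩
    obtain ⟨j, ja, jb, j2, j1⟩ := J a b hab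
    obtain ⟨l, -, hl⟩ := R.cjI j (hL ▸ mem_top j) g (hL ▸ mem_top g) ((kre_tr hU).2 j2) ((kre_tr hU).2 g2)
      (fun e => j1 ((kre_tr hU).1 e)) fun e => g1 ((kre_tr hU).1 e)
    rw [kre_tr hU, inv_mul_eq_one] at hl
    refine ⟨l • a, l • b, fun e => hab (smul_left_cancel l e), ?_, ?_⟩
    · rw [hl, mul_smul, inv_smul_smul, mul_smul, ja]
    · rw [hl, mul_smul, inv_smul_smul, mul_smul, jb]
  · obtain ⟨d, hd⟩ := exists_ne c
    obtain ⟨j, jc, jd, j2, j1⟩ := J c d hd.symm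
    refine ⟨j, ?_, jc, ?_⟩
    · have := idx j
      rwa [pow_three, j2, mul_one] at this
    · by_contra! k
      exact j1 (h.H_faith hW hd.symm jd k)

end H97.CYN
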