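import Cfsg.Agent.Lib.CYN.E1
import Cfsg.Agent.Lib.CYN.E2

set_option autoImplicit false
set_option linter.unusedSectionVars false

namespace H97.CYN

open MulAction Subgroup Matrix H51.HK
open scoped MatrixGroups

variable {G Ω : Type} [Group G] [MulAction G Ω] [Finite G] [Finite Ω] {p : ℕ} {Q : Ω → Subgroup G}

theorem St.caseE (h : St p Q) (h5 : 5 ≤ p) (hL : L2L Q) : Zl Q := by
  by_contra hZ
  simp only [Zl, not_forall] at hZ
  obtain ⟨b, c, hbc, hz⟩ := hZ
  obtain ⟨z, z2, hz'⟩ := hL.cen h.toFam hbc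
  have zm := (hz' z).2 (Or.inr rfl)
  have : ∃ a, a ∉ Li Q b c ∧ z • a = a := by
    by_contra hh
    refine hz ⟨z, zm.1, z2, fun x => ⟨fun e => ?_, fun e => (h.W_iff hbc).1 zm.2 x e⟩⟩
    by_contra hx
    exact hh ⟨x, hx, e⟩
  obtain ⟨a, hn, za⟩ := this
  obtain ⟨Γ, hc, ⟨a', ha, b', hb, c', hc', hbc', hn'⟩, hZ⟩ := h.e_good (fun a b hab => by
      obtain ⟨F, _, _, e, π, l⟩ := hL a b hab
      exact (l2_card h.toFam l).2.1) (fun a b hab => hL.cen h.toFam hab) hbc hn (fun k hk => by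
      rcases (hz' k).1 hk with rfl | rfl
      · exact one_smul _ _
      · exact za)
  exact h.e_tri h5 hL hc ha hb hc' hbc' hn' hZ

end H97.CYN
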