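import Cfsg.Agent.Lib.CYN.Bas2
import Cfsg.Agent.Lib.Inv73.ZStar
import Cfsg.Agent.S0205

set_option autoImplicit false
set_option linter.unusedSectionVars false

namespace H97.CYN

open MulAction Subgroup Matrix H51.HK
open scoped MatrixGroups

variable {G Ω : Type} [Group G] [MulAction G Ω] [Finite G] [Finite Ω] {p : ℕ} {Q : Ω → Subgroup G}

/-- a point whose group normalises a line lies on it -/
theorem Fam.mem_L_of_N (h : Fam p Q) {a b d : Ω} (hab : a ≠ b) {q : G} (hq : q ∈ Q d) (h1 : q ≠ 1)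
    (hN : q ∈ Ng Q a b) : d ∈ Li Q a b := by
  by_contra hd
  have h2 := (h.ncard_mod (a := d) (M := Li Q a b) fun x hx c hc =>
    h.N_inv (zpowers_le.2 hN (h.gen hq h1 ▸ hx)) hc).2 hd
  have h3 := (h.ncard_L hab).1
  rw [Nat.mod_eq_zero_of_dvd h2] at h3
  exact zero_ne_one h3

theorem o_tr (faith : ∀ g : G, (∀ x : Ω, g • x = x) → g = 1)
    (two : ∀ a b c d : Ω, a ≠ b → c ≠ d → ∃ g : G, g • a = c ∧ g • b = d) {M : Subgroup G}
    (hM : M.Normal) (h1 : M ≠ ⊥) (a b : Ω) : ∃ m ∈ M, m • a = b := by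
  by_cases hab : a = b
  · exact ⟨1, one_mem _, by rw [one_smul, hab]⟩
  obtain ⟨m, hm, c, hc⟩ : ∃ m ∈ M, ∃ c : Ω, c ≠ m • c := by
    by_contra hn
    exact h1 (eq_bot_iff.2 fun m hm => faith m fun c =>
      by_contra fun e => hn ⟨m, hm, c, fun e' => e e'.symm⟩)
  obtain ⟨g, rfl, rfl⟩ := two c (m • c) a b hc hab
  exact ⟨g * m * g⁻¹, hM.conj_mem m hm g, by rw [mul_smul, inv_smul_smul, mul_smul]⟩

theorem o_rns (faith : ∀ g : G, (∀ x : Ω, g • x = x) → g = 1)
    (two : ∀ a b c d : Ω, a ≠ b → c ≠ d → ∃ g : G, g • a = c ∧ g • b = d) {M : Subgroup G}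
    (hM : M.Normal) (h1 : M ≠ ⊥) (hs : Group.IsSolvable M) : RNS G Ω := by
  obtain ⟨A, ⟨nA, A1, AM⟩, hmin⟩ := (wellFounded_lt (α := Subgroup G)).has_min
    {A : Subgroup G | A.Normal ∧ A ≠ ⊥ ∧ A ≤ M} ⟨M, hM, h1, le_rfl⟩
  have sA : Group.IsSolvable A := Group.isSolvable_of_isSolvable_injective (inclusion_injective AM)
  have nt : Nontrivial A := (nontrivial_iff_ne_bot A).2 A1
  have lt : ⁅A, A⁆ < A := by
    have h2 := Group.IsSolvable.commutator_lt_top_of_nontrivial A
    rw [← map_subtype_commutator]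
    refine lt_of_le_of_ne (map_subtype_le _) fun e => h2.ne ?_
    apply Subgroup.map_injective A.subtype_injective
    rw [e, ← MonoidHom.range_eq_map, range_subtype]
  have hb : ⁅A, A⁆ = ⊥ := by
    by_contra hn
    exact hmin _ ⟨commutator_normal A A, hn, lt.le.trans AM⟩ lt
  have cA := commutator_eq_bot_iff_le_centralizer.1 hb
  refine ⟨A, nA, o_tr faith two nA A1, fun x n hn e => faith n fun y => ?_⟩
  obtain ⟨m, hm, rfl⟩ := o_tr faith two nA A1 x y
  rw [smul_smul, cA hm n hn, mul_smul, e]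

theorem o_one (faith : ∀ g : G, (∀ x : Ω, g • x = x) → g = 1)
    (two : ∀ a b c d : Ω, a ≠ b → c ≠ d → ∃ g : G, g • a = c ∧ g • b = d) {a b : Ω} {w : G}
    (hab : a ≠ b) (wa : w • a = a) (wb : w • b = b) (hc : ∀ g : G, g • a = a → g * w = w * g) :
    w = 1 := faith w fun y => by
  by_cases e : a = y
  · exact e ▸ wa
  obtain ⟨g, ga, rfl⟩ := two a b a y hab e
  rw [smul_smul, ← hc g ga, mul_smul, wb]

/-- an isolated involution: the case `p = 2` -/
theorem rns_two (faith : ∀ g : G, (∀ x : Ω, g • x = x) → g = 1)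
    (two : ∀ a b c d : Ω, a ≠ b → c ≠ d → ∃ g : G, g • a = c ∧ g • b = d) {α : Ω} {z : G}
    (hz : Inv z) (za : z • α = α) (hc : ∀ g : G, g • α = α → g * z = z * g) : RNS G Ω := by
  have o : orderOf z = 2 := orderOf_eq_prime (by rw [sq, hz.1]) hz.2
  have zs := H73.centralizer_sup_oddCore_eq_top' o fun g c => by
    by_cases e : α = g • α
    · rw [hc g e.symm, mul_inv_cancel_right]
    have f : (g * z * g⁻¹) • g • α = g • α := by rw [mul_smul, inv_smul_smul, mul_smul, za]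
    refine (hz.2 (o_one faith two e za (by_contra fun e' => hz.2 ?_) hc)).elim
    refine conj_eq_one_iff.1 (o_one faith two (Ne.symm e') f ?_ fun k hk => ?_)
    · rw [smul_smul, c.eq, mul_smul, f]
    · have := hc (g⁻¹ * k * g) (by rw [mul_smul, mul_smul, hk, inv_smul_smul])
      calc k * (g * z * g⁻¹) = g * (g⁻¹ * k * g * z) * g⁻¹ := by group
        _ = _ := by rw [this]; group
  refine o_rns faith two (M := Cfsg.oddCore G) inferInstance (fun e => hz.2 (faith z fun y => ?_))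
    (Cfsg.Agent.S0205.result H1.odd_card_oddCore)
  rw [e, sup_bot_eq] at zs
  by_cases e : α = y
  · exact e ▸ za
  obtain ⟨g, rfl, -⟩ := two α y y α e (Ne.symm e)
  rw [smul_smul, mem_centralizer_singleton_iff.1 (zs.ge (mem_top g)) |>.symm, mul_smul, za]

end H97.CYN
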