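import Cfsg.Agent.Lib.CYN.L2b
import Cfsg.Agent.Lib.CYN.O

set_option autoImplicit false
set_option linter.unusedSectionVars false

namespace H97.CYN

open MulAction Subgroup Matrix H51.HK
open scoped MatrixGroups

variable {G Ω : Type} [Group G] [MulAction G Ω] [Finite G] [Finite Ω] {p : ℕ} {Q : Ω → Subgroup G}

section aux

variable {Γ : Set Ω} {a b c γ d : Ω} {x y w q g : G}

theorem e1_pow (h : Fam p Q) (hx : x ∈ Q a) (x1 : x ≠ 1) {m n : ℕ} (e : m * n % p = 1) : x ^ n ≠ 1 := fun k => by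
  have := pow_eq_pow_mod (m * n) (h.pow_eq hx)
  rw [e, pow_one, mul_comm, pow_mul, k, one_pow] at this
  exact x1 this.symm

theorem e1_notN (h : Fam p Q) (hbc : b ≠ c) (hn : a ∉ Li Q b c) (hx : x ∈ Q a) (x1 : x ≠ 1) (hy : y ∈ Q b) :
    y * x ∉ Ng Q b c := fun k =>
  hn (h.mem_L_of_N hbc hx x1 ((mul_mem_cancel_left (Kg_le_Ng Q b c (left_mem_Li Q b c hy))).1 k))

theorem e1_tr (hZ : ∀ a ∈ Γ, ∀ b ∈ Γ, a ≠ b → ∀ k ∈ Kg Q a b ⊓ Wg Q a b, Tr Γ k) (ha : a ∈ Γ) (hγ : γ ∈ Γ)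
    (e : a ≠ γ) (hx : x ∈ Q a) (hw : w ∈ Q γ) (k : w * x * (w * x) ∈ Wg Q a γ) : Tr Γ (w * x * (w * x)) := by
  have : w * x ∈ Kg Q a γ := mul_mem (right_mem_Li Q a γ hw) (left_mem_Li Q a γ hx)
  exact hZ a ha γ hγ e _ ⟨mul_mem this this, k⟩

theorem e1_conj (h1 : Tr Γ (y * x * (y * x))) (h2 : Tr Γ (w * x * (w * x))) :
    ∃ τ : G, Tr Γ τ ∧ y * x * (y * w⁻¹) * (y * x)⁻¹ = τ * (y * w⁻¹)⁻¹ := by
  refine ⟨y * x * (y * x) * (w * x * (w * x))⁻¹, fun e he => ?_, by group⟩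
  rw [mul_smul, inv_smul_eq_iff.2 (h2 e he).symm, h1 e he]

theorem e1_third (h : Fam p Q) (hL : L2L Q) {d' e : Ω} (dd : d ≠ d') (gd : g • d = d) (gd' : g • d' = d')
    {k : ℕ} (hk : k * k % p ≠ 1) (t : ∀ q ∈ Q d, g * q * g⁻¹ = q ^ k) (ge : g • e = e) : e = d ∨ e = d' := by
  by_contra c
  rw [not_or] at c
  obtain ⟨k', -, t'⟩ := h.type gd'
  obtain ⟨k'', -, t''⟩ := h.type ge
  have h1 := hL.type h dd gd gd' t t'
  have h2 := hL.type h (Ne.symm c.1) gd ge t t''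
  have h3 := hL.type h (Ne.symm c.2) gd' ge t' t''
  have p1 : 1 % p = 1 := Nat.mod_eq_of_lt h.pr.one_lt
  apply hk
  calc k * k % p = k * k * (k' * k'') % p := by rw [Nat.mul_mod (k * k), h3, mul_one, Nat.mod_mod]
    _ = k * k' * (k * k'') % p := by congr 1; ring
    _ = 1 := by rw [Nat.mul_mod, h1, h2, mul_one, p1]

theorem e1_five (h : St p Q) (hc : Cl Q Γ) (ha : a ∈ Γ) (hb : b ∈ Γ) (hcc : c ∈ Γ) (hbc : b ≠ c)
    (hn : a ∉ Li Q b c) (hZ : ∀ a ∈ Γ, ∀ b ∈ Γ, a ≠ b → ∀ k ∈ Kg Q a b ⊓ Wg Q a b, Tr Γ k)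
    (hx : x ∈ Q a) (x1 : x ≠ 1) (w : Ω → G)
    (hw : ∀ γ ∈ Li Q b c, w γ ∈ Q γ ∧ w γ ≠ 1 ∧ w γ * x * (w γ * x) ∈ Wg Q a γ) (hd : d ∈ Li Q b c)
    (hq : q ∈ closure {g | ∃ γ ∈ Li Q b c, γ ≠ b ∧ g = w b * (w γ)⁻¹}) (qd : q ∈ Q d) (q1 : q ≠ 1) : False := by
  have bl := left_mem_Li Q b c
  have tr : ∀ γ ∈ Li Q b c, Tr Γ (w γ * x * (w γ * x)) := fun γ hγ =>
    e1_tr hZ ha (hc b hb c hcc hγ) (fun e => hn (e ▸ hγ)) hx (hw γ hγ).1 (hw γ hγ).2.2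
  let M : Subgroup G := Ng Q b c ⊓ (Ng Q b c).comap (MulAut.conj (w b * x)).toMonoidHom
  have hM : ∀ γ ∈ Li Q b c, w b * (w γ)⁻¹ ∈ M := fun γ hγ => by
    have h1 : w b * (w γ)⁻¹ ∈ Ng Q b c := Kg_le_Ng Q b c (mul_mem (bl (hw b bl).1) (inv_mem (hγ (hw γ hγ).1)))
    obtain ⟨τ, t1, t2⟩ := e1_conj (tr b bl) (tr γ hγ)
    refine ⟨h1, ?_⟩
    change w b * x * (w b * (w γ)⁻¹) * (w b * x)⁻¹ ∈ Ng Q b c
    rw [t2]
    exact mul_mem (W_le_N Q b c ((h.W_iff hbc).2 fun e he => t1 e (hc b hb c hcc he))) (inv_mem h1)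
  have qM : q ∈ M := (closure_le M).2 (by
    rintro _ ⟨γ, hγ, -, rfl⟩
    exact hM γ hγ) hq
  have key : ∀ d, ∀ q ∈ M, q ∈ Q d → q ≠ 1 → (w b * x) • d ∈ Li Q b c := fun d q qM qd q1 =>
    h.mem_L_of_N hbc (h.cj (w b * x) d q qd) (fun e => q1 (conj_eq_one_iff.1 e)) qM.2
  obtain ⟨g, gM, gd⟩ : ∃ g ∈ M, g • d ≠ d := by
    by_cases e : d = b
    · refine ⟨_, hM c (right_mem_Li Q b c), fun k => ?_⟩
      have hw' := hw c (right_mem_Li Q b c)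
      rw [e, mul_smul, smul_eq_iff_eq_inv_smul, h.fix b _ (inv_mem (hw b bl).1)] at k
      exact hw'.2.1 (inv_eq_one.1 (h.sr c b hbc _ (inv_mem hw'.1) k))
    · refine ⟨_, hM d hd, fun k => ?_⟩
      rw [mul_smul, h.fix d _ (inv_mem (hw d hd).1)] at k
      exact (hw b bl).2.1 (h.sr b d e _ (hw b bl).1 k)
  exact e1_notN h.toFam hbc hn hx x1 (hw b bl).1 (h.mem_N hbc hd (h.N_inv gM.1 hd) gd.symm (key d q qM qd q1)
    (key _ _ (mul_mem (mul_mem gM qM) (inv_mem gM)) (h.cj g d q qd) (by simpa using q1)))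

end aux

theorem St.e_tri (h : St p Q) (h5 : 5 ≤ p) (hL : L2L Q) {Γ : Set Ω} (hc : Cl Q Γ) {a b c : Ω}
    (ha : a ∈ Γ) (hb : b ∈ Γ) (hcc : c ∈ Γ) (hbc : b ≠ c) (hn : a ∉ Li Q b c)
    (hZ : ∀ a ∈ Γ, ∀ b ∈ Γ, a ≠ b → ∀ k ∈ Kg Q a b ⊓ Wg Q a b, Tr Γ k) : False := by
  obtain ⟨x, hx, x1⟩ := h.ex a
  have ne : ∀ γ ∈ Li Q b c, a ≠ γ := fun γ hγ e => hn (e ▸ hγ)
  have ex : ∀ γ, ∃ w : G, γ ∈ Li Q b c → w ∈ Q γ ∧ w ≠ 1 ∧ w * x * (w * x) ∈ Wg Q a γ := fun γ => by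
    by_cases hγ : γ ∈ Li Q b c
    · obtain ⟨w, k⟩ := hL.partner h.toFam (ne γ hγ) hx x1
      exact ⟨w, fun _ => k⟩
    · exact ⟨1, fun k => absurd k hγ⟩
  choose w hw using ex
  have bl := left_mem_Li Q b c
  have cl := right_mem_Li Q b c
  by_cases h7 : 7 ≤ p
  · obtain ⟨m, n, mn, d, hd, d', hd', dd, gd, gd', k, hk, t⟩ :=
      hL.split h.toFam h7 hbc (hw b bl).1 (hw b bl).2.1 (hw c cl).1 (hw c cl).2.1
    have tr : ∀ γ ∈ Li Q b c, Tr Γ (w γ ^ m * x ^ n * (w γ ^ m * x ^ n)) := fun γ hγ =>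
      e1_tr hZ ha (hc b hb c hcc hγ) (ne γ hγ) (pow_mem hx n) (pow_mem (hw γ hγ).1 m)
        (hL.scale h.toFam (ne γ hγ) hx x1 (hw γ hγ).1 (hw γ hγ).2.2 mn)
    obtain ⟨τ, t1, t2⟩ := e1_conj (tr b bl) (tr c cl)
    have key : ∀ e ∈ Li Q b c, (w b ^ m * (w c ^ m)⁻¹) • e = e → (w b ^ m * x ^ n)⁻¹ • e ∈ Li Q b c :=
      fun e he ge => by
        have h1 : (w b ^ m * (w c ^ m)⁻¹) • (w b ^ m * x ^ n)⁻¹ • e = (w b ^ m * x ^ n)⁻¹ • e := by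
          rw [eq_inv_smul_iff, ← mul_smul, ← mul_smul, t2, mul_smul, inv_smul_eq_iff.2 ge.symm,
            t1 e (hc b hb c hcc he)]
        rcases e1_third h.toFam hL dd gd gd' hk t h1 with k | k <;> rw [k]
        exacts [hd, hd']
    exact e1_notN h.toFam hbc hn (pow_mem hx n) (e1_pow h.toFam hx x1 mn) (pow_mem (hw b bl).1 m)
      (inv_mem_iff.1 (h.mem_N hbc hd hd' dd (key d hd gd) (key d' hd' gd')))
  · obtain rfl : p = 5 := by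
      have := h.pr
      have : p ≠ 6 := by rintro rfl; exact absurd this (by norm_num)
      omega
    rcases hL.five h.toFam hbc (hw b bl).1 (hw b bl).2.1 w fun γ hγ _ => ⟨(hw γ hγ).1, (hw γ hγ).2.1⟩ with
      ⟨γ, hγ, γb, d, hd, qd, q1⟩ | ⟨d, hd, q, hq, qd, q1⟩
    · exact e1_five h hc ha hb hcc hbc hn hZ (pow_mem hx 3) (e1_pow h.toFam hx x1 (m := 2) rfl)
        (fun γ => w γ ^ 2) (fun γ hγ => ⟨pow_mem (hw γ hγ).1 2,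
          e1_pow h.toFam (hw γ hγ).1 (hw γ hγ).2.1 (m := 3) rfl,
          hL.scale h.toFam (ne γ hγ) hx x1 (hw γ hγ).1 (hw γ hγ).2.2 rfl⟩) hd
        (pow_mem (Subgroup.subset_closure (by exact ⟨γ, hγ, γb, rfl⟩)) 2) qd q1
    · exact e1_five h hc ha hb hcc hbc hn hZ hx x1 w hw hd hq qd q1

end H97.CYN
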