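import Cfsg.Agent.Lib.CYN.Bas2
import Cfsg.Agent.Lib.HK.KPI

set_option autoImplicit false
set_option linter.unusedSectionVars false

namespace H97.CYN

open MulAction Subgroup Matrix H51.HK
open scoped MatrixGroups

variable {G Ω : Type} [Group G] [MulAction G Ω] [Finite G] [Finite Ω] {p : ℕ} {Q : Ω → Subgroup G}

/-- lower unipotent matrix -/
def lo {F : Type} [Field F] (t : F) : SL(2, F) := ⟨!![1, 0; t, 1], by simp [det_fin_two]⟩

variable {a b : Ω} {F : Type} [Field F] [Fintype F] {e : Ω → OnePoint F} {π : SL(2, F) →* G}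

theorem l2_card (h : Fam p Q) (l : L2Q (Ng Q a b) (Li Q a b) Q a b F e π) :
    Fintype.card F = p ∧ (Li Q a b).ncard = p + 1 ∧ CharP F p ∧ ∀ c : F, ∃ n : ℕ, c = n := by
  have hc : Fintype.card F = p := l.card_V.symm.trans (h.card a)
  haveI := Fact.mk h.pr
  refine ⟨hc, hc ▸ l.card, charP_of_card_eq_prime hc, fun c => ?_⟩
  obtain ⟨z, rfl⟩ := (ZMod.ringEquivOfPrime F h.pr hc).surjective c
  obtain ⟨n, rfl⟩ := ZMod.natCast_zmod_surjective z
  exact ⟨n, map_natCast _ n⟩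

/-- the line carries a split rank one group -/
theorem l2_LD (h : Fam p Q) (l : L2Q (Ng Q a b) (Li Q a b) Q a b F e π) :
    LD (Ng Q a b) (Li Q a b) Q where
  inv := fun _ hg _ hx => h.N_inv hg hx
  le := fun _ hc => (mem_Li.1 hc).trans (Kg_le_Ng Q a b)
  fix := fun c _ => h.fix c
  cj := fun g _ c _ => h.cj g c
  nil := fun c _ => by
    haveI := Fact.mk h.pr
    exact (IsPGroup.of_card (n := 1) (by rw [h.card, pow_one]) : IsPGroup p (Q c)).isNilpotent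
  odd := fun c _ => (h.card c).symm ▸ h.odd
  tr := fun c hc x hx y hy xc yc => by
    let f : Q c → (Li Q a b \ {c} : Set Ω) := fun u => ⟨(u : G) • x,
      h.N_inv (Kg_le_Ng Q a b (mem_Li.1 hc u.2)) hx, fun k => xc (by
        rw [← inv_smul_smul (u : G) x, Set.mem_singleton_iff.1 k]; exact h.fix c _ (inv_mem u.2))⟩
    have hf : Function.Injective f := fun u v k => Subtype.ext (inv_mul_eq_one.1
      (h.sr c x xc _ (mul_mem (inv_mem u.2) v.2) (by
        rw [mul_smul, inv_smul_eq_iff]; exact (congrArg Subtype.val k).symm)))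
    have hb : Function.Bijective f := hf.bijective_of_nat_card_le (by
      rw [h.card, Nat.card_coe_set_eq, Set.ncard_diff_singleton_of_mem hc, (l2_card h l).2.1]
      exact le_rfl)
    obtain ⟨u, hu⟩ := hb.2 ⟨y, hy, yc⟩
    exact ⟨u, u.2, congrArg Subtype.val hu⟩

theorem l2_range (l : L2Q (Ng Q a b) (Li Q a b) Q a b F e π) {k : G} :
    k ∈ Kg Q a b ↔ ∃ B, π B = k := by
  rw [← Lt_Li, ← l.range]; exact Iff.rfl

theorem l2_W (h : Fam p Q) (hab : a ≠ b) (l : L2Q (Ng Q a b) (Li Q a b) Q a b F e π) {B : SL(2, F)} :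
    π B ∈ Wg Q a b ↔ B = 1 ∨ B = -1 := (h.W_iff hab).trans (l.tr_iff (l2_LD h l))

theorem l2_Z (h : Fam p Q) (hab : a ≠ b) (l : L2Q (Ng Q a b) (Li Q a b) Q a b F e π) {k : G} :
    k ∈ Kg Q a b ⊓ Wg Q a b ↔ k = 1 ∨ k = π (-1) := by
  constructor
  · rintro ⟨h1, h2⟩
    obtain ⟨B, rfl⟩ := (l2_range l).1 h1
    exact ((l2_W h hab l).1 h2).imp (fun t => by rw [t, map_one]) (congrArg π)
  · rintro (rfl | rfl)
    · exact one_mem _
    · exact ⟨(l2_range l).2 ⟨_, rfl⟩, (l2_W h hab l).2 (Or.inr rfl)⟩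

theorem l2_Qa (l : L2Q (Ng Q a b) (Li Q a b) Q a b F e π) {x : G} :
    x ∈ Q a ↔ ∃ s : F, x = π (up s) := ⟨l.Vup x, by rintro ⟨s, rfl⟩; exact l.upV s⟩

theorem l2_ad_up (s : F) : (ad 1 : SL(2, F)) * up s * (ad 1)⁻¹ = lo (-s) :=
  mul_inv_eq_iff_eq_mul.2 (Subtype.ext (show (ad 1).1 * (up s).1 = (lo (-s)).1 * (ad 1).1 from
    Lq.ext2 (by simp [ad, up, lo]) (by simp [ad, up, lo]) (by simp [ad, up, lo]) (by simp [ad, up, lo])))

theorem l2_Qb (h : Fam p Q) (hab : a ≠ b) (l : L2Q (Ng Q a b) (Li Q a b) Q a b F e π) {y : G} :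
    y ∈ Q b ↔ ∃ t : F, y = π (lo t) := by
  have k : π (ad 1) • a = b :=
    ((l.mem_swap (l2_LD h l) (left_mem_Li Q a b) (right_mem_Li Q a b)).2 ⟨1, rfl⟩).2.1
  have k2 := h.cj_iff (π (ad 1)) ((π (ad 1))⁻¹ * y * π (ad 1)) a
  rw [k, show π (ad 1) * ((π (ad 1))⁻¹ * y * π (ad 1)) * (π (ad 1))⁻¹ = y by group, l2_Qa l] at k2
  rw [k2]
  constructor
  · rintro ⟨s, hs⟩
    exact ⟨-s, by rw [← l2_ad_up, map_mul, map_mul, map_inv, ← hs]; group⟩
  · rintro ⟨t, rfl⟩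
    exact ⟨-t, by
      have := l2_ad_up (-t)
      rw [neg_neg] at this
      rw [← this, map_mul, map_mul, map_inv]; group⟩

theorem up_pow (s : F) (n : ℕ) : (up s : SL(2, F)) ^ n = up (n * s) := Lq.up_pow s n

theorem l2_lo_mul (c d : F) : (lo c : SL(2, F)) * lo d = lo (c + d) :=
  Subtype.ext (show (lo c).1 * (lo d).1 = _ from
    Lq.ext2 (by simp [lo]) (by simp [lo]) (by simp [lo]) (by simp [lo]))

theorem l2_lo_zero : (lo 0 : SL(2, F)) = 1 := Subtype.ext one_fin_two.symm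

theorem lo_pow (t : F) (n : ℕ) : (lo t : SL(2, F)) ^ n = lo (n * t) := by
  induction n with
  | zero => simp [l2_lo_zero]
  | succ n ih => rw [pow_succ, ih, l2_lo_mul]; congr 1; push_cast; ring

theorem l2_sq_neg {s t : F} (h : s * t = -2) : (lo t * up s * (lo t * up s) : SL(2, F)) = -1 :=
  Subtype.ext (show (lo t).1 * (up s).1 * ((lo t).1 * (up s).1) = -1 from
    Lq.ext2 (by simp [lo, up]; linear_combination h) (by simp [lo, up]; linear_combination s * h)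
      (by simp [lo, up]; linear_combination t * h) (by simp [lo, up]; linear_combination (s * t + 1) * h))

theorem l2_sq_01 (s t : F) : (lo t * up s * (lo t * up s) : SL(2, F)).1 0 1 = s * (s * t + 2) := by
  show ((lo t).1 * (up s).1 * ((lo t).1 * (up s).1)) 0 1 = _
  simp [lo, up]; ring

theorem l2_up_inj (l : L2Q (Ng Q a b) (Li Q a b) Q a b F e π) {c d : F} (k : π (up c) = π (up d)) : c = d := by
  have : π (up (c - d)) = 1 := by
    rw [sub_eq_add_neg, ← Lq.up_mul, map_mul, k, ← map_mul, Lq.up_mul, add_neg_cancel, Lq.up_zero, map_one]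
  exact sub_eq_zero.1 ((Lq.one l this).elim (fun t => by simpa [up] using congrArg (fun B : SL(2, F) => B.1 0 1) t)
    fun t => by simpa [up] using congrArg (fun B : SL(2, F) => B.1 0 1) t)

theorem l2_lo_inj (l : L2Q (Ng Q a b) (Li Q a b) Q a b F e π) {c d : F} (k : π (lo c) = π (lo d)) : c = d := by
  have : π (lo (c - d)) = 1 := by
    rw [sub_eq_add_neg, ← l2_lo_mul, map_mul, k, ← map_mul, l2_lo_mul, add_neg_cancel, l2_lo_zero, map_one]
  exact sub_eq_zero.1 ((Lq.one l this).elim (fun t => by simpa [lo] using congrArg (fun B : SL(2, F) => B.1 1 0) t)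
    fun t => by simpa [lo] using congrArg (fun B : SL(2, F) => B.1 1 0) t)

/-- an element of order `p` of `K` lies in the group of a point of the line -/
theorem l2_unip (h : Fam p Q) (hab : a ≠ b) (l : L2Q (Ng Q a b) (Li Q a b) Q a b F e π)
    {B : SL(2, F)} (h1 : B ≠ 1) (hp : B ^ p = 1) : π B ≠ 1 ∧ ∃ d ∈ Li Q a b, π B ∈ Q d := by
  refine ⟨fun k => (Lq.one l k).elim h1 fun t => h1 ?_, ?_⟩
  · rw [← hp, t, h.odd.neg_one_pow]
  haveI := Fact.mk h.pr
  haveI := (l2_card h l).2.2.1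
  have n1 : IsNilpotent (B.1 - 1) := ⟨p, by
    rw [sub_pow_char_of_commute p (Commute.one_right _), one_pow]
    exact sub_eq_zero.2 ((Matrix.SpecialLinearGroup.coe_pow B p).symm.trans (congrArg Subtype.val hp))⟩
  have tr := (Matrix.isNilpotent_trace_of_isNilpotent n1).eq_zero
  have dt := B.2
  rw [det_fin_two] at dt
  simp only [trace_fin_two, Matrix.sub_apply, one_apply_eq] at tr
  by_cases k : B.1 1 0 = 0
  · have k0 : B.1 0 0 = 1 := sub_eq_zero.1 (pow_eq_zero_iff two_ne_zero |>.1 (by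
      linear_combination B.1 0 0 * tr - dt - B.1 0 1 * k))
    refine ⟨a, left_mem_Li Q a b, (l2_Qa l).2 ⟨B.1 0 1, congrArg π (Subtype.ext (Lq.ext2 k0 rfl k ?_))⟩⟩
    show B.1 1 1 = 1
    linear_combination tr - k0
  · obtain ⟨c, hc⟩ : ∃ c, B.1 0 0 = 1 + c * B.1 1 0 := ⟨(B.1 0 0 - 1) / B.1 1 0, by field_simp; ring⟩
    have e1 : B = up c * lo (B.1 1 0) * (up c)⁻¹ := eq_mul_inv_iff_mul_eq.2 (Subtype.ext
      (show B.1 * (up c).1 = (up c).1 * (lo (B.1 1 0)).1 from Lq.ext2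
        (by simp [lo, up, Matrix.mul_apply, Fin.sum_univ_two]; linear_combination hc)
        (by
          simp [lo, up, Matrix.mul_apply, Fin.sum_univ_two]
          refine mul_left_cancel₀ k ?_
          linear_combination B.1 0 0 * tr - dt - (B.1 0 0 - 1) * hc)
        (by simp [lo, up, Matrix.mul_apply, Fin.sum_univ_two])
        (by simp [lo, up, Matrix.mul_apply, Fin.sum_univ_two]; linear_combination tr - hc)))
    refine ⟨π (up c) • b, h.N_inv (Kg_le_Ng Q a b ((l2_range l).2 ⟨_, rfl⟩)) (right_mem_Li Q a b), ?_⟩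
    rw [e1, map_mul, map_mul, map_inv]
    exact h.cj _ _ _ ((l2_Qb h hab l).2 ⟨_, rfl⟩)

/-- the partner of `x` -/
theorem L2L.partner (hL : L2L Q) (h : Fam p Q) (hab : a ≠ b) {x : G} (hx : x ∈ Q a) (h1 : x ≠ 1) :
    ∃ y ∈ Q b, y ≠ 1 ∧ y * x * (y * x) ∈ Wg Q a b := by
  obtain ⟨F, _, _, e, π, l⟩ := hL a b hab
  obtain ⟨s, rfl⟩ := (l2_Qa l).1 hx
  have s0 : s ≠ 0 := fun k => h1 (by rw [k, Lq.up_zero, map_one])
  refine ⟨π (lo (-2 / s)), (l2_Qb h hab l).2 ⟨_, rfl⟩, fun k => ?_, ?_⟩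
  · have := l2_lo_inj l (k.trans (by rw [l2_lo_zero, map_one]) : _ = π (lo 0))
    exact div_ne_zero (neg_ne_zero.2 (kp_two l.toL2P)) s0 this
  · rw [← map_mul, ← map_mul, l2_sq_neg (by field_simp)]
    exact (l2_W h hab l).2 (Or.inr rfl)

theorem L2L.scale (hL : L2L Q) (h : Fam p Q) (hab : a ≠ b) {x y : G} (hx : x ∈ Q a) (h1 : x ≠ 1)
    (hy : y ∈ Q b) (e : y * x * (y * x) ∈ Wg Q a b) {m n : ℕ} (hmn : m * n % p = 1) :
    y ^ m * x ^ n * (y ^ m * x ^ n) ∈ Wg Q a b := by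
  obtain ⟨F, _, _, e', π, l⟩ := hL a b hab
  obtain ⟨s, rfl⟩ := (l2_Qa l).1 hx
  obtain ⟨t, rfl⟩ := (l2_Qb h hab l).1 hy
  have s0 : s ≠ 0 := fun k => h1 (by rw [k, Lq.up_zero, map_one])
  haveI := (l2_card h l).2.2.1
  have k : (m : F) * n = 1 := by rw [← Nat.cast_mul, CharP.natCast_eq_natCast_mod F p, hmn, Nat.cast_one]
  rw [← map_mul, ← map_mul, l2_W h hab l] at e
  have k2 : s * (s * t + 2) = 0 := by
    rw [← l2_sq_01]
    rcases e with e | e <;> rw [e] <;> simp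
  have k3 := (mul_eq_zero.1 k2).resolve_left s0
  rw [← map_pow, ← map_pow, ← map_mul, ← map_mul, up_pow, lo_pow,
    l2_sq_neg (by linear_combination k3 + s * t * k)]
  exact (l2_W h hab l).2 (Or.inr rfl)

/-- the types at two fixed points are inverse to each other -/
theorem L2L.type (hL : L2L Q) (h : Fam p Q) (hab : a ≠ b) {g : G} (ga : g • a = a) (gb : g • b = b)
    {m n : ℕ} (hm : ∀ x ∈ Q a, g * x * g⁻¹ = x ^ m) (hn : ∀ y ∈ Q b, g * y * g⁻¹ = y ^ n) :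
    m * n % p = 1 := by
  obtain ⟨F, _, _, e, π, l⟩ := hL a b hab
  have hN : g ∈ Ng Q a b := h.mem_N (ga.symm ▸ left_mem_Li Q a b) (gb.symm ▸ right_mem_Li Q a b)
  obtain ⟨c, σ, hc⟩ := l.sc (left_mem_Li Q a b) (right_mem_Li Q a b) hN ⟨ga, gb⟩
  haveI := (l2_card h l).2.2.1
  have k1 := l.conj_up hN hc 1
  rw [hm _ (l.upV 1), ← map_pow, up_pow, map_one σ] at k1
  have k2 : g * π (lo 1) * g⁻¹ = π (lo (c : F)⁻¹) :=
    Lq.conj_sc l hN hc (by simp [lo]) (by simp [lo]) (by simp [lo]) (by simp [lo])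
  rw [hn _ ((l2_Qb h hab l).2 ⟨1, rfl⟩), ← map_pow, lo_pow] at k2
  have k3 := l2_up_inj l k1
  have k4 := l2_lo_inj l k2
  have k5 : ((m * n : ℕ) : F) = (1 : ℕ) := by
    rw [mul_one] at k3 k4
    rw [Nat.cast_mul, k3, k4, mul_one, mul_inv_cancel₀ c.ne_zero, Nat.cast_one]
  exact Eq.trans ((CharP.natCast_eq_natCast F p).1 k5) (Nat.mod_eq_of_lt h.pr.one_lt)

theorem L2L.cen (hL : L2L Q) (h : Fam p Q) (hab : a ≠ b) :
    ∃ z : G, z * z = 1 ∧ ∀ k, k ∈ Kg Q a b ⊓ Wg Q a b ↔ k = 1 ∨ k = z := by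
  obtain ⟨F, _, _, e, π, l⟩ := hL a b hab
  exact ⟨π (-1), by rw [← map_mul, neg_mul_neg, one_mul, map_one], fun k => l2_Z h hab l⟩

end H97.CYN
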