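import Cfsg.Agent.Lib.CYN.L2a

set_option autoImplicit false
set_option linter.unusedSectionVars false

namespace H97.CYN

open MulAction Subgroup Matrix H51.HK
open scoped MatrixGroups

variable {G Ω : Type} [Group G] [MulAction G Ω] [Finite G] [Finite Ω] {p : ℕ} {Q : Ω → Subgroup G}

variable {b c : Ω}

section mat
variable {F : Type} [Field F]

theorem l2b_up (s : F) : (up s : SL(2, F)).1 = !![1, s; 0, 1] := rfl
theorem l2b_lo (s : F) : (lo s : SL(2, F)).1 = !![1, 0; s, 1] := rfl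
theorem l2b_dg (l : Fˣ) : (dg l : SL(2, F)).1 = !![(l : F), 0; 0, ((l⁻¹ : Fˣ) : F)] := rfl

theorem l2b_lo_inv (t : F) : (lo t : SL(2, F))⁻¹ = lo (-t) := by
  refine inv_eq_of_mul_eq_one_right (Subtype.ext ?_)
  rw [Matrix.SpecialLinearGroup.coe_mul, l2b_lo, l2b_lo, Matrix.SpecialLinearGroup.coe_one]
  ext i j
  fin_cases i <;> fin_cases j <;> simp [Matrix.mul_apply, Fin.sum_univ_two]

theorem l2b_lo_zero : (lo 0 : SL(2, F)) = 1 := by
  refine Subtype.ext ?_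
  rw [l2b_lo, Matrix.SpecialLinearGroup.coe_one]
  ext i j
  fin_cases i <;> fin_cases j <;> simp

theorem l2b_val (s a t : F) : (up s * (up a * lo t * (up a)⁻¹)⁻¹ : SL(2, F)).1 =
    !![1 - t * a - s * t, t * a ^ 2 + s * (1 + t * a); -t, 1 + t * a] := by
  have e : (up a : SL(2, F))⁻¹ = up (-a) := by
    refine inv_eq_of_mul_eq_one_right (Subtype.ext ?_)
    rw [Matrix.SpecialLinearGroup.coe_mul, l2b_up, l2b_up, Matrix.SpecialLinearGroup.coe_one]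
    ext i j
    fin_cases i <;> fin_cases j <;> simp [Matrix.mul_apply, Fin.sum_univ_two]
  rw [_root_.mul_inv_rev, _root_.mul_inv_rev, inv_inv, l2b_lo_inv, e]
  simp only [Matrix.SpecialLinearGroup.coe_mul, l2b_up, l2b_lo]
  ext i j
  fin_cases i <;> fin_cases j <;> simp [Matrix.mul_apply, Fin.sum_univ_two] <;> ring

theorem l2b_dg_lo (l : Fˣ) (t : F) :
    (dg l : SL(2, F)) * lo t * (dg l)⁻¹ = lo (((l⁻¹ : Fˣ) : F) ^ 2 * t) := by
  rw [mul_inv_eq_iff_eq_mul]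
  refine Subtype.ext ?_
  simp only [Matrix.SpecialLinearGroup.coe_mul, l2b_dg, l2b_lo]
  ext i j
  fin_cases i <;> fin_cases j <;> simp [Matrix.mul_apply, Fin.sum_univ_two]
  field_simp

theorem l2b_sq (h5 : (5 : F) = 0) (B : SL(2, F)) (ht : (B.1 0 0 + B.1 1 1) ^ 2 = 4) (h : B.1 1 0 ≠ 0) :
    B ^ 2 ≠ 1 ∧ (B ^ 2) ^ 5 = 1 := by
  have hd : B.1 0 0 * B.1 1 1 - B.1 0 1 * B.1 1 0 = 1 := by rw [← det_fin_two]; exact B.2
  have hB : B.1 * B.1 = (B.1 0 0 + B.1 1 1) • B.1 - 1 := by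
    ext i j
    fin_cases i <;> fin_cases j <;> simp [Matrix.mul_apply, Fin.sum_univ_two]
    · linear_combination -hd
    · ring
    · ring
    · linear_combination -hd
  generalize B.1 0 0 + B.1 1 1 = T at ht hB
  refine ⟨fun e => h ?_, Subtype.ext ?_⟩
  · have e1 : B.1 * B.1 = 1 := by rw [← sq]; exact congrArg Subtype.val e
    have e2 := congrFun (congrFun (hB.symm.trans e1) 1) 0
    simp only [Matrix.sub_apply, Matrix.smul_apply, smul_eq_mul, ne_eq, one_ne_zero, not_false_eq_true,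
      one_apply_ne, sub_zero] at e2
    linear_combination B.1 1 0 * h5 + B.1 1 0 * ht - T * e2
  · obtain ⟨N, hN⟩ : ∃ N, N = B.1 * B.1 - 1 := ⟨_, rfl⟩
    have N2 : N * N = 0 := by
      have e : N * N = (T * T) • (B.1 * B.1) - (T + T) • B.1 - (T + T) • B.1 + (1 + 1 + 1 + 1) := by
        rw [hN]
        nth_rewrite 1 [hB]
        nth_rewrite 1 [hB]
        simp only [sub_mul, mul_sub, smul_mul_assoc, mul_smul_comm, one_mul, mul_one, add_smul, smul_sub,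
          mul_smul]
        abel
      rw [e, hB, ← sq, ht]
      ext i j
      simp only [Matrix.sub_apply, Matrix.add_apply, Matrix.smul_apply, smul_eq_mul, Matrix.zero_apply]
      ring
    have hp : ∀ n : ℕ, (1 + N) ^ n = 1 + (n : F) • N := fun n => by
      induction n with
      | zero => simp
      | succ n ih =>
        rw [pow_succ, ih, add_mul, one_mul, smul_mul_assoc, mul_add, mul_one, N2, add_zero,
          Nat.cast_succ, add_smul, one_smul, add_assoc, add_comm N]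
    change (B.1 ^ 2) ^ 5 = 1
    rw [sq, show B.1 * B.1 = 1 + N by rw [hN, add_sub_cancel], hp, Nat.cast_ofNat, h5, zero_smul, add_zero]

theorem l2b_prod (h5 : (5 : F) = 0) {s t t' u u' : F} (i j : F) (hu : s * t = u) (hu' : s * t' = u')
    (hT : ((1 - (i + 1) * u) * (1 - (j + 1) * u') - (1 + i * u + i ^ 2 * u) * u' -
      u * (1 + j * u' + j ^ 2 * u') + (1 + i * u) * (1 + j * u')) ^ 2 = 4)
    (hS : -u * (1 - (j + 1) * u') - (1 + i * u) * u' ≠ 0) {B : SL(2, F)}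
    (hB : B = up s * (up (i * s) * lo t * (up (i * s))⁻¹)⁻¹ *
      (up s * (up (j * s) * lo t' * (up (j * s))⁻¹)⁻¹)) : B ^ 2 ≠ 1 ∧ (B ^ 2) ^ 5 = 1 := by
  have e := congrArg Subtype.val hB
  rw [Matrix.SpecialLinearGroup.coe_mul, l2b_val, l2b_val] at e
  subst hu hu'
  refine l2b_sq h5 B ?_ fun h => hS ?_
  · rw [← hT, e]
    simp [Matrix.mul_apply, Fin.sum_univ_two]
    ring
  · rw [e] at h
    simp [Matrix.mul_apply, Fin.sum_univ_two] at h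
    linear_combination s * h

theorem l2b_diag {s t l : F} (t0 : t ≠ 0) (l0 : l ≠ 0) (l1 : l ^ 2 ≠ 1)
    (h : (l - 1) ^ 2 = -(s * t) * l) : ∃ C : SL(2, F),
      up s * (lo t)⁻¹ = C * dg (Units.mk0 l l0) * C⁻¹ := by
  have l2 : 1 - l ^ 2 ≠ 0 := sub_ne_zero.2 l1.symm
  obtain ⟨C, hC⟩ : ∃ C : SL(2, F),
      C.1 = !![1 - l, (l - 1) / (t * (1 - l ^ 2)); t, l / (1 - l ^ 2)] := ⟨⟨_, by
    rw [det_fin_two_of]
    field_simp
    ring⟩, rfl⟩
  refine ⟨C, ?_⟩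
  · rw [eq_mul_inv_iff_mul_eq, l2b_lo_inv]
    refine Subtype.ext ?_
    simp only [Matrix.SpecialLinearGroup.coe_mul, l2b_dg, l2b_lo, l2b_up, hC]
    ext i j
    fin_cases i <;> fin_cases j <;> simp [Matrix.mul_apply, Fin.sum_univ_two]
    · linear_combination h
    · field_simp
      linear_combination h
    · ring
    · field_simp
      ring

end mat

theorem Fam.l2b_fix (h : Fam p Q) {g x : G} (hx : x ∈ Q b) (x1 : x ≠ 1) (hg : g * x * g⁻¹ ∈ Q b) :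
    g • b = b := h.eq_of_mem (h.cj g b x hx) hg fun e => x1 (conj_eq_one_iff.1 e)

/-- for `p ≥ 7` some `y^m w^(-m)` is a split element of type `≠ ±1` -/
theorem L2L.split (hL : L2L Q) (h : Fam p Q) (h7 : 7 ≤ p) (hbc : b ≠ c) {y w : G} (hy : y ∈ Q b)
    (y1 : y ≠ 1) (hw : w ∈ Q c) (w1 : w ≠ 1) :
    ∃ m n : ℕ, m * n % p = 1 ∧ ∃ d ∈ Li Q b c, ∃ d' ∈ Li Q b c, d ≠ d' ∧
      (y ^ m * (w ^ m)⁻¹) • d = d ∧ (y ^ m * (w ^ m)⁻¹) • d' = d' ∧ ∃ k : ℕ, k * k % p ≠ 1 ∧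
        ∀ q ∈ Q d, (y ^ m * (w ^ m)⁻¹) * q * (y ^ m * (w ^ m)⁻¹)⁻¹ = q ^ k := by
  obtain ⟨F, _, _, e, π, l⟩ := hL b c hbc
  obtain ⟨-, -, hch, hn⟩ := l2_card h l
  obtain ⟨s, rfl⟩ := (l2_Qa l).1 hy
  obtain ⟨t, rfl⟩ := (l2_Qb h hbc l).1 hw
  have s0 : s ≠ 0 := fun e => y1 (by rw [e, kp_up_zero, map_one])
  have t0 : t ≠ 0 := fun e => w1 (by rw [e, l2b_lo_zero, map_one])
  have sm : ∀ k : ℕ, 0 < k → k < 7 → (k : F) ≠ 0 := fun k k0 k7 e => by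
    have := Nat.le_of_dvd k0 ((CharP.cast_eq_zero_iff F p k).1 e)
    omega
  obtain ⟨μ, μ0, hμ⟩ : ∃ μ : F, μ ≠ 0 ∧ (-(s * t) * μ ^ 2) ^ 4 ≠ 1 := by
    by_contra hc
    have k : ∀ μ : F, μ ≠ 0 → (-(s * t) * μ ^ 2) ^ 4 = 1 := fun μ h => by
      by_contra h'
      exact hc ⟨μ, h, h'⟩
    have k1 := k 1 one_ne_zero
    have k2 := k 2 (by simpa using sm 2 (by norm_num) (by norm_num))
    have k3 := k 3 (by simpa using sm 3 (by norm_num) (by norm_num))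
    refine sm 5 (by norm_num) (by norm_num) ?_
    rw [Nat.cast_ofNat]
    linear_combination 283 * k2 - 11 * k3 - 277 * k1
  have st0 : -(s * t) ≠ 0 := neg_ne_zero.2 (mul_ne_zero s0 t0)
  obtain ⟨L, hL⟩ : ∃ L, L = -(s * t) * μ ^ 2 := ⟨_, rfl⟩
  have L0 : L ≠ 0 := hL ▸ mul_ne_zero st0 (pow_ne_zero _ μ0)
  rw [← hL] at hμ
  have L2 : L ^ 2 ≠ 1 := fun e => hμ (by rw [show 4 = 2 * 2 from rfl, pow_mul, e, one_pow])
  have L1 : L - 1 ≠ 0 := fun e => L2 (by rw [sub_eq_zero.1 e, one_pow])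
  obtain ⟨m, hm⟩ := hn ((L - 1) / (-(s * t) * μ))
  have m0 : (m : F) ≠ 0 := hm ▸ div_ne_zero L1 (mul_ne_zero st0 μ0)
  obtain ⟨n, hn'⟩ := hn (m : F)⁻¹
  obtain ⟨k, hk⟩ := hn (L ^ 2)
  have p1 : 1 % p = 1 := Nat.mod_eq_of_lt h.pr.one_lt
  obtain ⟨C, hC⟩ := l2b_diag (s := m * s) (mul_ne_zero m0 t0) L0 L2 (by
    rw [← hm]
    field_simp
    rw [hL]
    ring)
  have eg : π (up s) ^ m * (π (lo t) ^ m)⁻¹ = π C * π (dg (Units.mk0 L L0)) * (π C)⁻¹ := by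
    rw [← map_pow, ← map_pow, ← map_inv, ← map_mul, up_pow, lo_pow, hC, map_mul, map_mul, map_inv]
  have hCN : π C ∈ Ng Q b c := Kg_le_Ng Q b c ((l2_range l).2 ⟨C, rfl⟩)
  have eu : ∀ u, π (dg (Units.mk0 L L0)) * π (up u) * (π (dg (Units.mk0 L L0)))⁻¹ = π (up u) ^ k :=
    fun u => by
      rw [← map_mul, kp_dg_up, map_mul, mul_inv_cancel_right, ← map_pow, up_pow, ← hk]
      rfl
  have fb := h.l2b_fix hy y1 (g := π (dg (Units.mk0 L L0))) (by rw [eu]; exact pow_mem hy k)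
  have fc := h.l2b_fix hw w1 (g := π (dg (Units.mk0 L L0))) (by
    rw [← map_inv, ← map_mul, ← map_mul, l2b_dg_lo]
    exact (l2_Qb h hbc l).2 ⟨_, rfl⟩)
  refine ⟨m, n, ?_, π C • b, h.N_inv hCN (left_mem_Li Q b c), π C • c, h.N_inv hCN (right_mem_Li Q b c),
    fun e => hbc (MulAction.injective _ e), ?_, ?_, k, fun e => hμ ?_, fun q hq => ?_⟩
  · rw [← p1]
    refine (CharP.natCast_eq_natCast F p).1 ?_
    rw [Nat.cast_mul, ← hn', mul_inv_cancel₀ m0, Nat.cast_one]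
  · rw [eg, mul_smul, inv_smul_smul, mul_smul, fb]
  · rw [eg, mul_smul, inv_smul_smul, mul_smul, fc]
  · rw [← p1] at e
    have := (CharP.natCast_eq_natCast F p).2 e
    rw [Nat.cast_mul, ← hk, Nat.cast_one] at this
    rw [← this]; ring
  · obtain ⟨u, hu⟩ := (l2_Qa l).1 ((h.cj_iff (π C) ((π C)⁻¹ * q * π C) b).1 (by convert hq using 1; group))
    have eq : q = π C * π (up u) * (π C)⁻¹ := by rw [← hu]; group
    rw [eg, eq, conj_pow, ← eu]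
    group

/-- the case `p = 5` -/
theorem L2L.five (hL : L2L Q) (h : Fam 5 Q) (hbc : b ≠ c) {y : G} (hy : y ∈ Q b) (y1 : y ≠ 1)
    (w : Ω → G) (hw : ∀ γ ∈ Li Q b c, γ ≠ b → w γ ∈ Q γ ∧ w γ ≠ 1) :
    (∃ γ ∈ Li Q b c, γ ≠ b ∧ ∃ d ∈ Li Q b c, (y ^ 2 * (w γ ^ 2)⁻¹) ^ 2 ∈ Q d ∧
      (y ^ 2 * (w γ ^ 2)⁻¹) ^ 2 ≠ 1) ∨
    ∃ d ∈ Li Q b c, ∃ q ∈ closure {g | ∃ γ ∈ Li Q b c, γ ≠ b ∧ g = y * (w γ)⁻¹},
      q ∈ Q d ∧ q ≠ 1 := by
  obtain ⟨F, _, _, e, π, l⟩ := hL b c hbc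
  obtain ⟨-, -, hch, hn⟩ := l2_card h l
  obtain ⟨s, rfl⟩ := (l2_Qa l).1 hy
  have s0 : s ≠ 0 := fun e => y1 (by rw [e, kp_up_zero, map_one])
  have h5 : (5 : F) = 0 := by simpa using CharP.cast_eq_zero F 5
  have h2 : (2 : F) ≠ 0 := fun e => one_ne_zero (α := F) (by linear_combination h5 - 2 * e)
  have cs : ∀ u : F, u ≠ 0 → u = 1 ∨ u = 4 ∨ u = 2 ∨ u = 3 := fun u u0 => by
    obtain ⟨n, rfl⟩ := hn u
    rw [CharP.cast_eq_mod F 5 n] at u0 ⊢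
    have : n % 5 < 5 := Nat.mod_lt _ (by norm_num)
    generalize n % 5 = r at u0 this
    interval_cases r <;> simp at u0 ⊢
  have pt : ∀ a : F, ∃ γ ∈ Li Q b c, γ ≠ b ∧ ∃ t, t ≠ 0 ∧ w γ = π (up a * lo t * (up a)⁻¹) := fun a => by
    have hg : π (up a) • c ∈ Li Q b c :=
      h.N_inv (Kg_le_Ng Q b c ((l2_range l).2 ⟨_, rfl⟩)) (right_mem_Li Q b c)
    have hb : π (up a) • c ≠ b := fun e => hbc (MulAction.injective (π (up a))
      ((h.fix b _ (l.upV a)).trans e.symm))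
    obtain ⟨k1, k2⟩ := hw _ hg hb
    refine ⟨_, hg, hb, ?_⟩
    generalize w (π (up a) • c) = v at k1 k2
    obtain ⟨t, ht⟩ := (l2_Qb h hbc l).1 ((h.cj_iff (π (up a)) ((π (up a))⁻¹ * v * π (up a)) c).1
      (by convert k1 using 1; group))
    have ev : v = π (up a * lo t * (up a)⁻¹) := by
      rw [map_mul, map_mul, map_inv, ← ht]; group
    exact ⟨t, fun e => k2 (by rw [ev, e, l2b_lo_zero, mul_one, mul_inv_cancel, map_one]), ev⟩
  by_contra hc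
  obtain ⟨c1, c2⟩ := not_or.1 hc
  have fin : ∀ B : SL(2, F), π B ∈ closure {g | ∃ γ ∈ Li Q b c, γ ≠ b ∧ g = π (up s) * (w γ)⁻¹} →
      ¬ (B ^ 2 ≠ 1 ∧ (B ^ 2) ^ 5 = 1) := fun B hB k => by
    obtain ⟨k1, d, hd, k2⟩ := l2_unip h hbc l k.1 k.2
    exact c2 ⟨d, hd, π (B ^ 2), by rw [map_pow]; exact pow_mem hB 2, k2, k1⟩
  have pt2 : ∀ a : F, ∃ t, (s * t = 2 ∨ s * t = 3) ∧ π (up s * (up a * lo t * (up a)⁻¹)⁻¹) ∈
      closure {g | ∃ γ ∈ Li Q b c, γ ≠ b ∧ g = π (up s) * (w γ)⁻¹} := fun a => by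
    obtain ⟨γ, hγ, γb, t, t0, e⟩ := pt a
    have hm : π (up s * (up a * lo t * (up a)⁻¹)⁻¹) ∈
        closure {g | ∃ γ ∈ Li Q b c, γ ≠ b ∧ g = π (up s) * (w γ)⁻¹} :=
      subset_closure ⟨γ, hγ, γb, by rw [e, map_mul, map_inv]⟩
    rcases cs _ (mul_ne_zero s0 t0) with k | k | k
    · have e2 : π (up s) ^ 2 * (w γ ^ 2)⁻¹ = π (up (2 * s) * (up a * lo (2 * t) * (up a)⁻¹)⁻¹) := by
        rw [e, ← map_pow, ← map_pow, ← map_inv, ← map_mul, conj_pow, up_pow, lo_pow, Nat.cast_ofNat]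
      obtain ⟨k1, k2⟩ := l2b_sq h5 (up (2 * s) * (up a * lo (2 * t) * (up a)⁻¹)⁻¹)
        (by rw [l2b_val]; simp; linear_combination (16 * (s * t)) * k)
        (by rw [l2b_val]; simpa using ⟨h2, t0⟩)
      obtain ⟨k1, d, hd, k2⟩ := l2_unip h hbc l k1 k2
      rw [map_pow, ← e2] at k1 k2
      exact absurd ⟨γ, hγ, γb, d, hd, k2, k1⟩ c1
    · exact absurd (l2b_sq h5 _ (by rw [l2b_val]; simp; linear_combination (s * t) * k)
        (by rw [l2b_val]; simpa using t0)) (fin _ hm)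
    · exact ⟨t, k, hm⟩
  obtain ⟨t0, u0, m0⟩ := pt2 (0 * s)
  obtain ⟨t1, u1, m1⟩ := pt2 (1 * s)
  obtain ⟨t2, u2, m2⟩ := pt2 (2 * s)
  have f01 := mul_mem m0 m1
  have f02 := mul_mem m0 m2
  have f12 := mul_mem m1 m2
  rw [← map_mul] at f01 f02 f12
  replace f01 := fin _ f01
  replace f02 := fin _ f02
  replace f12 := fin _ f12
  have n7 : ∀ x : F, x = 7 → x ≠ 0 := fun x e e' =>
    one_ne_zero (α := F) (by linear_combination 3 * e' - 3 * e - 4 * h5)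
  have d01 : s * t0 = 2 → s * t1 = 3 → False := fun a b =>
    f01 (l2b_prod h5 0 1 a b (by linear_combination 12 * h5) (n7 _ (by ring)) rfl)
  have d10 : s * t0 = 3 → s * t1 = 2 → False := fun a b =>
    f01 (l2b_prod h5 0 1 a b (by linear_combination 12 * h5) (n7 _ (by ring)) rfl)
  have d12 : s * t1 = 2 → s * t2 = 3 → False := fun a b =>
    f12 (l2b_prod h5 1 2 a b (by linear_combination 12 * h5) (n7 _ (by ring)) rfl)
  have d21 : s * t1 = 3 → s * t2 = 2 → False := fun a b =>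
    f12 (l2b_prod h5 1 2 a b (by linear_combination 12 * h5) (n7 _ (by ring)) rfl)
  have d22 : s * t0 = 2 → s * t2 = 2 → False := fun a b =>
    f02 (l2b_prod h5 0 2 a b (by linear_combination 64 * h5)
      (fun e => one_ne_zero (α := F) (by linear_combination 2 * e - 3 * h5)) rfl)
  have d33 : s * t0 = 3 → s * t2 = 3 → False := fun a b =>
    f02 (l2b_prod h5 0 2 a b (by linear_combination 273 * h5)
      (fun e => one_ne_zero (α := F) (by linear_combination e - 4 * h5)) rfl)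
  rcases u0 with u0 | u0 <;> rcases u1 with u1 | u1 <;> rcases u2 with u2 | u2
  exacts [d22 u0 u2, d12 u1 u2, d01 u0 u1, d01 u0 u1, d10 u0 u1, d10 u0 u1, d21 u1 u2, d33 u0 u2]

end H97.CYN
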