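import Cfsg.Agent.Lib.CYN.Lp2

set_option autoImplicit false
set_option linter.unusedSectionVars false

namespace H97.CYN

open MulAction Subgroup Matrix H51.HK
open scoped MatrixGroups

variable {G Ω : Type} [Group G] [MulAction G Ω] [Finite G] [Finite Ω] {p : ℕ} {Q : Ω → Subgroup G}

theorem Cl.lp3_inv (h : Fam p Q) {Γ : Set Ω} (hc : Cl Q Γ) :
    ∀ g ∈ Lt Γ Q, ∀ x ∈ Γ, g • x ∈ Γ := by
  let S : Subgroup G :=
    { carrier := {g | ∀ x, x ∈ Γ ↔ g • x ∈ Γ}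
      mul_mem' := fun {u v} hu hv x => by rw [mul_smul]; exact (hv x).trans (hu _)
      one_mem' := fun x => by rw [one_smul]
      inv_mem' := fun {u} hu x => by
        have := hu (u⁻¹ • x)
        rw [smul_inv_smul] at this
        exact this.symm }
  have hle : Lt Γ Q ≤ S := iSup₂_le fun c hcΓ y hy x =>
    ⟨fun hx => hc.inv h hcΓ hy hx, fun hx => by
      have := hc.inv h hcΓ (inv_mem hy) hx
      rwa [inv_smul_smul] at this⟩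
  exact fun g hg x hx => (hle hg x).1 hx

theorem Cl.lp3_K {Γ : Set Ω} {a b : Ω} (ha : a ∈ Γ) (hb : b ∈ Γ) : Kg Q a b ≤ Lt Γ Q :=
  sup_le (x_le_Lt Q ha) (x_le_Lt Q hb)

/-- the group of a closed set is doubly transitive on it -/
theorem Pl.two_cl (h : Pl p Q) {Γ : Set Ω} (hc : Cl Q Γ) : ∀ a ∈ Γ, ∀ b ∈ Γ, ∀ c ∈ Γ, ∀ d ∈ Γ,
    a ≠ b → c ≠ d → ∃ g ∈ Lt Γ Q, g • a = c ∧ g • b = d := by
  intro a ha b hb c hcΓ d hd hab hcd
  obtain ⟨l, hl, la⟩ := h.toSt.toFam.gleason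
    (fun _ ha _ hx _ hc' => hc.inv h.toSt.toFam ha hx hc') ha hcΓ
  have hb' : l • b ∈ Γ := hc.lp3_inv h.toSt.toFam l hl b hb
  have hcb : c ≠ l • b := fun e => hab (MulAction.injective l (la.trans e))
  obtain ⟨z, hz⟩ := h.exz c (l • b) hcb
  obtain ⟨z', hz'⟩ := h.exz c d hcd
  obtain ⟨U, P, f⟩ := h.exists_fit c
  have hU : z * z' ∈ U := f.zz _ _ hcb hcd z z' hz hz'
  have ho : Odd (orderOf (z * z')) := f.odd.of_dvd_nat (Subgroup.orderOf_dvd_natCard U hU)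
  obtain ⟨m, hm, mc, mb⟩ := h.tr_of_zz hcb hcd hz hz' ho (x_le_Lt Q hcΓ)
    (mul_mem (Cl.lp3_K hcΓ hb' hz.mem) (Cl.lp3_K hcΓ hd hz'.mem))
  exact ⟨m * l, mul_mem hm hl, by rw [mul_smul, la, mc], by rw [mul_smul, mb]⟩

theorem St.lp3_off (h : St p Q) {Γ : Set Ω} (hn : Nc Q Γ) {a b : Ω} (hab : a ≠ b) :
    ∃ e ∈ Γ, e ∉ Li Q a b := by
  obtain ⟨a0, ha0, b0, hb0, c0, hc0, h0, hc⟩ := hn
  by_contra hx
  have hx' : ∀ e ∈ Γ, e ∈ Li Q a b := fun e he => by_contra fun hne => hx ⟨e, he, hne⟩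
  exact hc (h.L_eq hab (hx' _ ha0) (hx' _ hb0) h0 ▸ hx' _ hc0)

section
variable {Γ : Set Ω} {X : Type} [Group X] [Finite X] [MulAction X Γ] {f : Lt Γ Q →* X}

theorem Im.lp3_zs (i : Im (Lt Γ Q) Γ f) (h : Fam p Q) (hc : Cl Q Γ) {a b : Γ} (hab : a ≠ b)
    {z : Lt Γ Q} (hz : Zs Q a b (z : G)) : Zs (Qi Q f : Γ → Subgroup X) a b (f z) where
  mem := (i.mem_K fun _ hc => x_le_Lt Q hc).2 ⟨z, hz.mem, rfl⟩
  sq := by
    rw [← map_mul, show z * z = 1 from Subtype.ext hz.sq, map_one]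
  fix x := by
    rw [i.smul_iff, hz.fix, i.mem_L h (fun _ hc => x_le_Lt Q hc) hc hab]

theorem Im.lp3_tr (i : Im (Lt Γ Q) Γ f) (h : Fam p Q) (hc : Cl Q Γ) {a b : Γ} (hab : a ≠ b)
    {k : Lt Γ Q} (hk : ∀ x ∈ Li (Qi Q f : Γ → Subgroup X) a b, f k • x = x) :
    (k : G) ∈ Wg Q (a : Ω) b := by
  refine (h.W_iff fun e => hab (Subtype.ext e)).2 fun x hx => ?_
  have hxΓ : x ∈ Γ := hc a a.2 b b.2 hx
  exact (i.smul_iff k ⟨x, hxΓ⟩ ⟨x, hxΓ⟩).1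
    (hk _ ((i.mem_L h (fun _ hc => x_le_Lt Q hc) hc hab).2 hx))

theorem Im.lp3_zs' (i : Im (Lt Γ Q) Γ f) (h : Pl p Q) (hc : Cl Q Γ) (hn : Nc Q Γ) {a b : Γ}
    (hab : a ≠ b) {y : X} (hy : Zs (Qi Q f : Γ → Subgroup X) a b y) :
    ∃ z : Lt Γ Q, Zs Q a b (z : G) ∧ f z = y := by
  have hab' : (a : Ω) ≠ b := fun e => hab (Subtype.ext e)
  obtain ⟨k, hk, rfl⟩ := (i.mem_K fun _ hc => x_le_Lt Q hc).1 hy.mem
  obtain ⟨z, hz⟩ := h.exz a b hab'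
  have hW := i.lp3_tr h.toSt.toFam hc hab fun x hx => (hy.fix x).2 hx
  rcases h.uq a b hab' z hz k hk hW with e | e
  · obtain ⟨x, hxΓ, hx⟩ := h.toSt.lp3_off hn hab'
    refine absurd ((i.mem_L h.toSt.toFam (fun _ hc => x_le_Lt Q hc) hc hab (c := ⟨x, hxΓ⟩)).1
      ((hy.fix _).1 ((i.smul_iff k _ _).2 ?_))) hx
    rw [e, one_smul]
  · exact ⟨k, e ▸ hz, rfl⟩

end

theorem Pl.im (h : Pl p Q) {Γ : Set Ω} (hc : Cl Q Γ) (hn : Nc Q Γ) :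
    ∃ (X : Type) (_ : Group X) (_ : Finite X) (_ : MulAction X Γ) (Q' : Γ → Subgroup X),
      Pl p Q' := by
  have hF := h.toSt.toFam
  obtain ⟨X, i1, i2, i3, f, i⟩ := exists_im (hc.lp3_inv hF)
  have hle : ∀ c ∈ Γ, Q c ≤ Lt Γ Q := fun _ hc => x_le_Lt Q hc
  have h2 : Γ.Nontrivial := by
    obtain ⟨a0, ha0, b0, hb0, -, -, h0, -⟩ := hn
    exact ⟨a0, ha0, b0, hb0, h0⟩
  have hS : St p (Qi Q f : Γ → Subgroup X) := i.st hF hle h2 (h.two_cl hc)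
  have ne : ∀ {a b : Γ}, a ≠ b → (a : Ω) ≠ b := fun hab e => hab (Subtype.ext e)
  refine ⟨X, i1, i2, i3, Qi Q f, hS, fun hcol => ?_, fun a b hab => ?_, fun a b hab => ?_,
    fun a b hab y hy k' hk' hw => ?_, fun a b hab y hy => ?_,
    fun a b c d hab hcd y y' hy hy' e => ?_⟩
  · obtain ⟨a0, ha0, b0, hb0, c0, hc0, h0, hc'⟩ := hn
    have h0' : (⟨a0, ha0⟩ : Γ) ≠ ⟨b0, hb0⟩ := fun e => h0 (congrArg Subtype.val e)
    exact hc' ((i.mem_L hF hle hc h0' (c := ⟨c0, hc0⟩)).1 (hcol _ _ h0' _))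
  · rw [← h.len a b (ne hab), ← Set.ncard_image_of_injective _ Subtype.val_injective]
    congr 1
    ext x
    constructor
    · rintro ⟨y, hy, rfl⟩
      exact (i.mem_L hF hle hc hab).1 hy
    · intro hx
      exact ⟨⟨x, hc a a.2 b b.2 hx⟩, (i.mem_L hF hle hc hab).2 hx, rfl⟩
  · obtain ⟨z, hz⟩ := h.exz a b (ne hab)
    exact ⟨f ⟨z, Cl.lp3_K a.2 b.2 hz.mem⟩, i.lp3_zs hF hc hab hz⟩
  · obtain ⟨z, hz, rfl⟩ := i.lp3_zs' h hc hn hab hy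
    obtain ⟨k, hk, rfl⟩ := (i.mem_K hle).1 hk'
    have hW := i.lp3_tr hF hc hab ((hS.toFam.W_iff hab).1 hw)
    rcases h.uq a b (ne hab) z hz k hk hW with e | e
    · exact Or.inl (by rw [show k = 1 from Subtype.ext e, map_one])
    · exact Or.inr (by rw [show k = z from Subtype.ext e])
  · obtain ⟨z, hz, rfl⟩ := i.lp3_zs' h hc hn hab hy
    obtain ⟨τ, hτ, e⟩ := h.rt a b (ne hab) z hz
    refine ⟨f ⟨τ, Cl.lp3_K a.2 b.2 hτ⟩, (i.mem_K hle).2 ⟨_, hτ, rfl⟩, ?_⟩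
    rw [← map_mul]
    exact congrArg f (Subtype.ext e)
  · obtain ⟨z, hz, rfl⟩ := i.lp3_zs' h hc hn hab hy
    obtain ⟨z', hz', rfl⟩ := i.lp3_zs' h hc hn hcd hy'
    obtain ⟨τ, hτ, ea, eb, e'⟩ := h.hh a b c d (ne hab) (ne hcd) z z' hz hz'
      ((i.smul_iff z' a b).1 e)
    refine ⟨f ⟨τ, Cl.lp3_K a.2 b.2 hτ⟩, (i.mem_K hle).2 ⟨_, hτ, rfl⟩, ?_, ?_, ?_⟩
    · rw [← map_mul]
      exact (i.smul_iff _ a a).2 ea
    · rw [← map_mul]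
      exact (i.smul_iff _ b b).2 eb
    · rw [← map_mul, ← map_pow]
      exact congrArg f (Subtype.ext e')

end H97.CYN
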