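import Cfsg.Agent.Lib.CYN.LpD
import Cfsg.Agent.Lib.CYN.L2a

set_option autoImplicit false
set_option linter.unusedSectionVars false

namespace H97.CYN

open MulAction Subgroup Matrix H51.HK
open scoped MatrixGroups

variable {G Ω : Type} [Group G] [MulAction G Ω] [Finite G] [Finite Ω] {p : ℕ} {Q : Ω → Subgroup G}

section
variable {a b : Ω} {F : Type} [Field F] [Fintype F] {e : Ω → OnePoint F} {π : SL(2, F) →* G}

theorem x_lp1_z (h : St p Q) (hn : ¬ Col Q) (hab : a ≠ b) (l : L2Q (Ng Q a b) (Li Q a b) Q a b F e π) {z : G}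
    (hz : Zs Q a b z) : z = π (-1) := by
  rcases (l2_Z h.toFam hab l).1 ⟨hz.mem, (h.toFam.W_iff hab).2 fun x hx => (hz.fix x).2 hx⟩ with k | k
  · obtain ⟨c, hc⟩ := h.not_col hn hab
    exact absurd ((hz.fix c).1 (by rw [k, one_smul])) hc
  · exact k

theorem x_lp1_dg_pow (c : Fˣ) (n : ℕ) : (dg (c ^ n) : SL(2, F)) = dg c ^ n := by
  induction n with
  | zero =>
    have := dg_mul (1 : Fˣ) 1
    rw [mul_one] at this
    rw [pow_zero, pow_zero]
    exact left_eq_mul.1 this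
  | succ n ih => rw [pow_succ, pow_succ, dg_mul, ih]

theorem x_lp1_hh (h : St p Q) (hab : a ≠ b) (l : L2Q (Ng Q a b) (Li Q a b) Q a b F e π) {c d : Ω} (hcd : c ≠ d)
    {z' : G} (hz : Zs Q c d z') (za : z' • a = b) : (π (ad 1) * z') ^ (p - 1) = π (-1) := by
  classical
  obtain ⟨hc, -, hp, nat⟩ := l2_card h.toFam l
  have zb : z' • b = a := by rw [← za, ← mul_smul, hz.sq, one_smul]
  have hN : z' ∈ Ng Q a b :=
    h.toFam.mem_N (by rw [za]; exact right_mem_Li Q a b) (by rw [zb]; exact left_mem_Li Q a b)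
  obtain ⟨A, σ, hA⟩ := l.Ngl z' hN
  obtain rfl : σ = RingEquiv.refl F := RingEquiv.ext fun x => by
    obtain ⟨n, rfl⟩ := nat x
    rw [map_natCast, map_natCast]
  have hA' := Lq.act_lin.1 hA
  have h1 := hA' a (left_mem_Li Q a b)
  have h2 := hA' b (right_mem_Li Q a b)
  rw [za, l.ea, l.eb, OnePoint.smul_infty_eq_ite] at h1
  rw [zb, l.ea, l.eb, OnePoint.smul_some_eq_ite] at h2
  have g0 : A 1 0 ≠ 0 := fun k => by
    rw [if_pos k] at h1
    exact OnePoint.coe_ne_infty _ h1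
  have a0 : A 0 0 = 0 := by
    rw [if_neg g0] at h1
    exact (div_eq_zero_iff.1 (OnePoint.coe_eq_coe.1 h1).symm).resolve_right g0
  have d0 : A 1 1 = 0 := by
    by_contra k
    rw [if_neg (by rwa [mul_zero, zero_add])] at h2
    exact OnePoint.infty_ne_coe _ h2
  have b0 : A 0 1 ≠ 0 := fun k => A.det_ne_zero (by rw [det_fin_two]; simp [a0, k])
  have t2 : (2 : F) ≠ 0 := kp_two l.toL2P
  have δ0 : A 0 1 / A 1 0 ≠ 0 := div_ne_zero b0 g0
  have ns : ¬ IsSquare (A 0 1 / A 1 0) := by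
    rintro ⟨m, hm⟩
    have key : ∀ m : F, A 0 1 / A 1 0 = m * m → ∃ x ∈ Li Q a b, e x = m ∧ x ∈ Li Q c d := fun m hm => by
      have m0 : m ≠ 0 := fun k => δ0 (by rw [hm, k, mul_zero])
      obtain ⟨x, hx, ex⟩ := l.bij.surjOn (Set.mem_univ (m : OnePoint F))
      refine ⟨x, hx, ex, (hz.fix x).1 (l.bij.injOn (h.toFam.N_inv hN hx) hx ?_)⟩
      rw [hA' x hx, ex, OnePoint.smul_some_eq_ite, d0, a0, add_zero, if_neg (mul_ne_zero g0 m0), zero_mul, zero_add,
        ← div_div, hm, mul_div_cancel_right₀ _ m0]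
    have m0 : m ≠ 0 := fun k => δ0 (by rw [hm, k, mul_zero])
    obtain ⟨x, hx, ex, fx⟩ := key m hm
    obtain ⟨y, hy, ey, fy⟩ := key (-m) (by rw [hm, neg_mul_neg])
    have xy : x ≠ y := fun k => by
      rw [k, ey] at ex
      have := OnePoint.coe_eq_coe.1 ex
      exact mul_ne_zero t2 m0 (by linear_combination -this)
    have : a ∈ Li Q c d := by
      rw [← h.L_eq hcd fx fy xy, h.L_eq hab hx hy xy]
      exact left_mem_Li Q a b
    exact hab (((hz.fix a).2 this).symm.trans za)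
  have rc : ringChar F ≠ 2 := fun k => t2 (by
    have := (ringChar.spec F 2).2 (by rw [k])
    exact_mod_cast this)
  have pw : (A 0 1 / A 1 0) ^ (p / 2) = -1 := by
    rw [← hc]
    exact (FiniteField.pow_dichotomy rc δ0).resolve_left fun k => ns ((FiniteField.isSquare_iff rc δ0).2 k)
  have cj : z' * π (ad 1) * z'⁻¹ = π (ad (-Units.mk0 _ δ0)) := Lq.conj_lin l hN hA (by
    ext i j
    fin_cases i <;> fin_cases j <;> simp [ad, Matrix.mul_apply, Fin.sum_univ_two, a0, d0] <;> field_simp)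
  have sq : (π (ad 1) * z') ^ 2 = π (dg (Units.mk0 _ δ0)⁻¹) := by
    calc _ = π (ad 1) * (z' * π (ad 1) * z'⁻¹) * (z' * z') := by rw [pow_two]; group
      _ = _ := by rw [cj, hz.sq, mul_one, ← map_mul, ad_mul_ad, one_mul, inv_neg, neg_neg]
  have e2 : p - 1 = 2 * (p / 2) := by
    obtain ⟨k, hk⟩ := h.toFam.odd
    omega
  rw [e2, pow_mul, sq, ← map_pow, ← x_lp1_dg_pow, inv_pow,
    show Units.mk0 _ δ0 ^ (p / 2) = -1 from Units.ext (by simpa using pw), inv_neg_one, dg_neg_one]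

end

theorem St.pl (h : St p Q) (hL : L2L Q) (hZ : Zl Q) (hn : ¬ Col Q) : Pl p Q where
  toSt := h
  nc := hn
  len a b hab := by
    obtain ⟨F, _, _, e, π, l⟩ := hL a b hab
    exact (l2_card h.toFam l).2.1
  exz a b hab := by
    obtain ⟨z, h1, h2, h3⟩ := hZ a b hab
    exact ⟨z, h1, h2, h3⟩
  uq a b hab z hz k h1 h2 := by
    obtain ⟨F, _, _, e, π, l⟩ := hL a b hab
    rw [x_lp1_z h hn hab l hz]
    exact (l2_Z h.toFam hab l).1 ⟨h1, h2⟩
  rt a b hab z hz := by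
    obtain ⟨F, _, _, e, π, l⟩ := hL a b hab
    refine ⟨π (ad 1), (l2_range l).2 ⟨_, rfl⟩, ?_⟩
    rw [x_lp1_z h hn hab l hz, ← map_mul, ad_mul_ad, inv_one, mul_one, dg_neg_one]
  hh a b c d hab hcd z z' hz hz' za := by
    obtain ⟨F, _, _, e, π, l⟩ := hL a b hab
    have k := (l.mem_swap (l2_LD h.toFam l) (left_mem_Li Q a b) (right_mem_Li Q a b)).2 ⟨1, rfl⟩
    have zb : z' • b = a := by rw [← za, ← mul_smul, hz'.sq, one_smul]
    refine ⟨π (ad 1), (l2_range l).2 ⟨_, rfl⟩, by rw [mul_smul, za, k.2.2], by rw [mul_smul, zb, k.2.1], ?_⟩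
    rw [x_lp1_z h hn hab l hz]
    exact x_lp1_hh h hab l hcd hz' za

end H97.CYN
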