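import Cfsg.Agent.Lib.CYN.Lp0
import Cfsg.Agent.Lib.Inv73.ZStar
import Cfsg.Agent.Lib.Core.Fitting
import Cfsg.Agent.S0205

set_option autoImplicit false
set_option linter.unusedSectionVars false

namespace H97.CYN

open MulAction Subgroup Matrix H51.HK
open scoped MatrixGroups

variable {G Ω : Type} [Group G] [MulAction G Ω] [Finite G] [Finite Ω] {p : ℕ} {Q : Ω → Subgroup G}

theorem Pl.lp2_zz (h : Pl p Q) {a b c : Ω} (hab : a ≠ b) (hac : a ≠ c) {z z' : G} (hz : Zs Q a b z)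
    (hz' : Zs Q a c z') :
    z * z' ∈ (Cfsg.oddCore (stabilizer G a)).map (stabilizer G a).subtype := by
  have za : z ∈ stabilizer G a := (hz.fix a).2 (left_mem_Li Q a b)
  have o2 : orderOf (⟨z, za⟩ : stabilizer G a) = 2 :=
    orderOf_eq_prime (Subtype.ext ((pow_two z).trans hz.sq))
      fun e => h.z_ne hab hz (congrArg Subtype.val e)
  have top := H73.centralizer_sup_oddCore_eq_top' o2 fun g hg => by
    have ga : (g : G) • a = a := g.2
    have k := h.z_cj hz g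
    rw [ga] at k
    refine Subtype.ext (h.iso hab (fun e => hab ?_) hz k (congrArg Subtype.val hg.eq).symm)
    exact MulAction.injective (g : G) (ga.trans e)
  obtain ⟨g, ga, gb⟩ := h.two a b a c hab hac
  have k := h.z_cj hz g
  rw [ga, gb] at k
  have hg : (⟨g, ga⟩ : stabilizer G a) ∈ Cfsg.oddCore (stabilizer G a) ⊔
      centralizer ({(⟨z, za⟩ : stabilizer G a)} : Set (stabilizer G a)) := by
    rw [sup_comm, top]; trivial
  obtain ⟨o, ho, t, ht, e⟩ := mem_sup_of_normal_left.1 hg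
  have e1 : (o : G) * t = g := congrArg Subtype.val e
  have e2 : (t : G) * z = z * t := congrArg Subtype.val (mem_centralizer_singleton_iff.1 ht)
  refine ⟨⟨z, za⟩ * o * ⟨z, za⟩⁻¹ * o⁻¹,
    mul_mem (Normal.conj_mem inferInstance o ho _) (inv_mem ho), ?_⟩
  change z * o * z⁻¹ * (o : G)⁻¹ = z * z'
  rw [h.z_uniq hac k hz', ← e1, inv_eq_of_mul_eq_one_right hz.sq]
  calc z * o * z * (o : G)⁻¹ = z * (o * (z * t) * (o * t : G)⁻¹) := by group
    _ = _ := by rw [← e2]; group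

theorem Pl.exists_fit (h : Pl p Q) (a : Ω) : ∃ U P : Subgroup G, Fit Q a U P := by
  obtain ⟨O, Oa, Oodd, On, QO, Oz⟩ : ∃ O : Subgroup G, (∀ u ∈ O, u • a = a) ∧ Odd (Nat.card O) ∧
      (∀ g : G, g • a = a → ∀ u ∈ O, g * u * g⁻¹ ∈ O) ∧ Q a ≤ O ∧
      ∀ b c : Ω, a ≠ b → a ≠ c → ∀ z z', Zs Q a b z → Zs Q a c z' → z * z' ∈ O := by
    refine ⟨(Cfsg.oddCore (stabilizer G a)).map (stabilizer G a).subtype, ?_, ?_, ?_, ?_,
      fun b c hab hac z z' hz hz' => h.lp2_zz hab hac hz hz'⟩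
    · rintro _ ⟨u, -, rfl⟩
      exact u.2
    · rw [card_subtype]
      exact H1.odd_card_oddCore
    · rintro g hg _ ⟨u, hu, rfl⟩
      exact ⟨⟨g, hg⟩ * u * ⟨g, hg⟩⁻¹, Normal.conj_mem inferInstance u hu _, rfl⟩
    · have le : Q a ≤ stabilizer G a := fun x hx => h.fix a x hx
      haveI : ((Q a).subgroupOf (stabilizer G a)).Normal := ⟨fun x hx g => by
        have := h.cj g a x hx
        rw [show (g : G) • a = a from g.2] at this
        exact this⟩
      have := H1.le_oddCore (N := (Q a).subgroupOf (stabilizer G a)) (by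
        rw [Nat.card_congr (subgroupOfEquivOfLe le).toEquiv, h.card a]
        exact h.odd)
      exact fun x hx => ⟨⟨x, le hx⟩, this hx, rfl⟩
  obtain ⟨U, hU⟩ : ∃ U : Subgroup G, ∀ u, u ∈ U ↔ u ∈ O ∧ ∀ x ∈ Q a, x * u = u * x :=
    ⟨O ⊓ centralizer (Q a : Set G), fun u => Iff.rfl⟩
  have Uodd : Odd (Nat.card U) := Oodd.of_dvd_nat (card_dvd_of_le fun u hu => ((hU u).1 hu).1)
  have nU : ∀ g : G, g • a = a → ∀ u ∈ U, g * u * g⁻¹ ∈ U := fun g hg u hu => by
    obtain ⟨h1, h2⟩ := (hU u).1 hu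
    refine (hU _).2 ⟨On g hg u h1, fun x hx => ?_⟩
    exact (h.bas2_cent_cj (fun y hy => (h2 y hy).symm) g x (by rwa [hg])).symm
  have mx : ∀ M : Subgroup G, M ≤ U → (∀ u ∈ U, ∀ m ∈ M, u * m * u⁻¹ ∈ M) → Group.IsNilpotent M →
      M ≤ Cfsg.fittingOf U := fun M hM hn hnil =>
    H1.le_fittingOf hM (fun u hu => mem_normalizer_fintype fun m hm => hn u hu m hm) hnil
  refine ⟨U, Cfsg.fittingOf U, fun u hu => Oa u ((hU u).1 hu).1, fun u hu x hx => (((hU u).1 hu).2 x hx).symm,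
    Uodd, nU, fun b c hab hac z z' hz hz' => (hU _).2 ⟨Oz b c hab hac z z' hz hz', fun x hx => ?_⟩,
    H1.fittingOf_le U, mx _ (fun x hx => (hU x).2 ⟨QO hx, fun y hy => h.comm hy hx⟩) (fun u hu m hm => ?_) ?_,
    fun g hg u hu => ?_, H1.isNilpotent_fittingOf U, mx, fun u hu hc => ?_⟩
  · rw [← mul_assoc, ← (h.mem_W.1 (h.z_W hab hz)).1 x hx, mul_assoc,
      ← (h.mem_W.1 (h.z_W hac hz')).1 x hx, mul_assoc]
  · rw [← ((hU u).1 hu).2 m hm, mul_inv_cancel_right]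
    exact hm
  · haveI : IsMulCommutative (Q a) := ⟨⟨fun x y => Subtype.ext (h.comm x.2 y.2)⟩⟩
    exact H1.isNilpotent_of_isMulCommutative
  · exact (mem_normalizer_iff.1 (H1.normalizer_le_normalizer_fittingOf U
      (mem_normalizer_fintype (nU g hg))) u).1 hu
  · exact H1.inf_centralizer_fittingOf_le (Cfsg.Agent.S0205.result Uodd)
      ⟨hu, fun v hv => (hc v hv).symm⟩

end H97.CYN
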